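import Cfsg.Agent.Lib.Perm.PrimeDegree
import Cfsg.Agent.S0671
import Mathlib.Dynamics.PeriodicPts.Lemmas

/-!
# Orbits of prime size: the point stabiliser is transitive or linear
-/

set_option linter.unusedSectionVars false

namespace Cfsg.Agent.Lib.DoublyPrim

open MulAction Cfsg.Agent.Lib.Perm Cfsg.Agent.Lib.Perm.PrimeDegree

/-- Powers indexed by `ZMod p` multiply on a point fixed by the `p`-th power. -/
theorem pow_val_smul_add {Γ β : Type*} [Group Γ] [MulAction Γ β] {p : ℕ} [NeZero p] (x : Γ)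
    {y : β} (hy : x ^ p • y = y) (i j : ZMod p) :
    x ^ (i + j).val • y = x ^ i.val • x ^ j.val • y := by
  have h : ∀ n : ℕ, x ^ (n % p) • y = x ^ n • y := by
    intro n
    conv_rhs => rw [← Nat.mod_add_div n p, pow_add, mul_smul, pow_mul]
    congr 1
    induction n / p with
    | zero => rw [pow_zero, one_smul]
    | succ k ih => rw [pow_succ, mul_smul, hy, ← ih]
  rw [← mul_smul, ← pow_add, ZMod.val_add, h]

theorem pow_val_smul_injective {Γ β : Type*} [Group Γ] [MulAction Γ β] {p : ℕ} [hp : Fact p.Prime]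
    (x : Γ) {y : β} (hx : x • y ≠ y) (hxp : x ^ p • y = y) :
    Function.Injective fun i : ZMod p => x ^ i.val • y := by
  have hper : period x y = p := by
    rcases (Nat.dvd_prime hp.out).1 (pow_smul_eq_iff_period_dvd.1 hxp) with h | h
    · have h1 : x ^ 1 • y = y := pow_smul_eq_iff_period_dvd.2 (h ▸ dvd_rfl)
      rw [pow_one] at h1
      exact absurd h1 hx
    · exact h
  intro i j hij
  simp only at hij
  have h1 : x ^ (i - j).val • y = y := by
    have h2 := pow_val_smul_add x hxp j (i - j)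
    rw [add_sub_cancel, hij] at h2
    exact (MulAction.injective (x ^ j.val) h2).symm
  rw [pow_smul_eq_iff_period_dvd, hper] at h1
  have h2 := Nat.eq_zero_of_dvd_of_lt h1 (ZMod.val_lt _)
  rwa [ZMod.val_eq_zero, sub_eq_zero] at h2


theorem transitive_or_linear {Γ β : Type*} [Group Γ] [MulAction Γ β] {p : ℕ} [hp : Fact p.Prime]
    (x : Γ) (y : β) (hcard : (orbit Γ y).ncard = p) (hx : x • y ≠ y) (hxp : x ^ p • y = y) :
    (∀ z ∈ orbit Γ y, ∀ z' ∈ orbit Γ y, z ≠ y → z' ≠ y → ∃ g : Γ, g • y = y ∧ g • z = z') ∨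
      ∀ g : Γ, g • y = y →
        ∃ l : ZMod p, ∀ i : ZMod p, g • (x ^ i.val • y) = x ^ (l * i).val • y := by
  classical
  have hfin : (orbit Γ y).Finite := Set.finite_of_ncard_pos (hcard ▸ hp.out.pos)
  have := hfin.fintype
  have hα : Fintype.card (orbit Γ y) = p := by
    rw [← Nat.card_eq_fintype_card, Nat.card_coe_set_eq, hcard]
  let φ : Γ →* Equiv.Perm (orbit Γ y) := MulAction.toPermHom Γ (orbit Γ y)
  have : IsPretransitive φ.range (orbit Γ y) := ⟨fun u v => by
    obtain ⟨g, hg⟩ := exists_smul_eq Γ u v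
    exact ⟨⟨φ g, g, rfl⟩, hg⟩⟩
  have hinj : Function.Injective fun i : ZMod p =>
      (⟨x ^ i.val • y, mem_orbit y _⟩ : orbit Γ y) := fun i j hij =>
    pow_val_smul_injective x hx hxp (congrArg Subtype.val hij)
  let e : ZMod p ≃ orbit Γ y := Equiv.ofBijective _
    ((Fintype.bijective_iff_injective_and_card _).mpr ⟨hinj, by rw [ZMod.card, hα]⟩)
  have he : ∀ i, ((e i : orbit Γ y) : β) = x ^ i.val • y := fun i => rfl
  have hce : ∀ j, φ x (e j) = e (j + 1) := by
    intro j
    apply Subtype.ext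
    show x • (x ^ j.val • y) = x ^ (j + 1).val • y
    rw [add_comm, pow_val_smul_add x hxp, ZMod.val_one, pow_one]
  rcases affine_or_two_transitive hα φ.range e (φ x) ⟨x, rfl⟩ hce
      (fun h => Cfsg.Agent.S0671.result (p := p) (f := 1) le_rfl (by rw [pow_one, hα]) h)
    with haff | h2
  · refine Or.inr fun g hg => ?_
    obtain ⟨u, w, huw⟩ := haff (φ g) ⟨g, rfl⟩
    have h0 : φ g (e 0) = e 0 := Subtype.ext (by
      show g • (x ^ (0 : ZMod p).val • y) = x ^ (0 : ZMod p).val • y
      rw [ZMod.val_zero, pow_zero, one_smul, hg])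
    rw [huw, mul_zero, zero_add, e.injective.eq_iff] at h0
    refine ⟨u, fun i => ?_⟩
    have h1 := congrArg Subtype.val (huw i)
    rw [h0, add_zero] at h1
    exact h1
  · refine Or.inl fun z hz z' hz' hzy hzy' => ?_
    obtain ⟨⟨σ, g, rfl⟩, h1, h3⟩ := is_two_pretransitive_iff.mp h2
      (show (⟨y, mem_orbit_self y⟩ : orbit Γ y) ≠ ⟨z, hz⟩ from
        fun e => hzy (congrArg Subtype.val e).symm)
      (show (⟨y, mem_orbit_self y⟩ : orbit Γ y) ≠ ⟨z', hz'⟩ from
        fun e => hzy' (congrArg Subtype.val e).symm)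
    exact ⟨g, congrArg Subtype.val h1, congrArg Subtype.val h3⟩

/-- The point stabiliser is transitive or semiregular on the rest of the orbit. -/
theorem transitive_or_semiregular {Γ β : Type*} [Group Γ] [MulAction Γ β] {p : ℕ}
    [hp : Fact p.Prime] (x : Γ) (y : β) (hcard : (orbit Γ y).ncard = p) (hx : x • y ≠ y)
    (hxp : x ^ p • y = y) :
    (∀ z ∈ orbit Γ y, ∀ z' ∈ orbit Γ y, z ≠ y → z' ≠ y → ∃ g : Γ, g • y = y ∧ g • z = z') ∨
      ∀ g : Γ, g • y = y → ∀ z ∈ orbit Γ y, z ≠ y → g • z = z →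
        ∀ w ∈ orbit Γ y, g • w = w := by
  classical
  refine (transitive_or_linear x y hcard hx hxp).imp_right fun hlin g hg z hz hzy hgz w hw => ?_
  obtain ⟨l, hl⟩ := hlin g hg
  have hinj := pow_val_smul_injective x hx hxp
  have hfin : (orbit Γ y).Finite := Set.finite_of_ncard_pos (hcard ▸ hp.out.pos)
  have hrange : Set.range (fun i : ZMod p => x ^ i.val • y) = orbit Γ y := by
    refine Set.eq_of_subset_of_ncard_le ?_ ?_ hfin
    · rintro _ ⟨i, rfl⟩
      exact mem_orbit y _
    · rw [hcard, Set.ncard_range_of_injective hinj, Nat.card_zmod]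
  rw [← hrange] at hz hw
  obtain ⟨i, rfl⟩ := hz
  obtain ⟨k, rfl⟩ := hw
  have hi : i ≠ 0 := fun e => hzy (by simp [e])
  have h1 : l * i = i := hinj ((hl i).symm.trans hgz)
  have h2 : l = 1 := mul_right_cancel₀ hi (h1.trans (one_mul i).symm)
  show g • x ^ k.val • y = x ^ k.val • y
  rw [hl, h2, one_mul]

end Cfsg.Agent.Lib.DoublyPrim
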