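import Cfsg.Agent.Lib.DoublyPrim.Setup
import Cfsg.Agent.Lib.DoublyPrim.Dichotomy

/-!
# The kernel of a point stabiliser on its blocks
-/

set_option linter.unusedSectionVars false

namespace Cfsg.Agent.Lib.DoublyPrim

open MulAction
open scoped Pointwise

variable {G Ω : Type*} [Group G] [MulAction G Ω]

variable (G) in
/-- The elements fixing `x` and every block of the stabiliser of `x`. -/
def blkKer (a : Ω) (B : Set Ω) (x : Ω) : Subgroup G where
  carrier := {g | g • x = x ∧ ∀ v, v ≠ x → g • blk G a B x v = blk G a B x v}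
  one_mem' := ⟨one_smul G x, fun v _ => one_smul G _⟩
  mul_mem' := fun {g g'} hg hg' => ⟨by rw [mul_smul, hg'.1, hg.1], fun v hv => by
    rw [mul_smul, hg'.2 v hv, hg.2 v hv]⟩
  inv_mem' := fun {g} hg => ⟨by rw [inv_smul_eq_iff, hg.1], fun v hv => by
    rw [inv_smul_eq_iff, hg.2 v hv]⟩

theorem mem_blkKer {a : Ω} {B : Set Ω} {x : Ω} {g : G} :
    g ∈ blkKer G a B x ↔ g • x = x ∧ ∀ v, v ≠ x → g • blk G a B x v = blk G a B x v := Iff.rfl

variable (G) in
/-- The elements of `blkKer x` fixing `y`. -/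
def kerStab (a : Ω) (B : Set Ω) (x y : Ω) : Subgroup G :=
  blkKer G a B x ⊓ stabilizer G y

theorem mem_kerStab {a : Ω} {B : Set Ω} {x y : Ω} {g : G} :
    g ∈ kerStab G a B x y ↔ g ∈ blkKer G a B x ∧ g • y = y := Iff.rfl

variable (G) in
/-- The common fixed points of `kerStab x y`. -/
def fixSet (a : Ω) (B : Set Ω) (x y : Ω) : Set Ω :=
  {v | ∀ g ∈ kerStab G a B x y, g • v = v}

variable (G) in
/-- A setup with a regular abelian subgroup of `G_a`. -/
structure HasKernel (p : ℕ) (a b : Ω) (B : Set Ω) (U : Subgroup G) : Prop where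
  setup : IsSetup G p a b B
  le : U ≤ stabilizer G a
  comm : ∀ u ∈ U, ∀ v ∈ U, u * v = v * u
  reg : ∀ x, x ≠ a → ∃! u : U, (u : G) • b = x
  not_dvd : ¬ p ∣ Nat.card ↥(stabilizer G a ⊓ stabilizer G b)

namespace HasKernel

variable [Finite G] [Finite Ω] {p : ℕ} {a b : Ω} {B : Set Ω} {U : Subgroup G}
  (h : HasKernel G p a b B U)
include h

theorem smul_ne {g : G} (hg : g • a = a) {v : Ω} (hv : v ≠ a) : g • v ≠ a :=
  fun e => hv (MulAction.injective g (e.trans hg.symm))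

theorem U_fix {u : G} (hu : u ∈ U) : u • a = a := h.le hu

theorem exists_U {v : Ω} (hv : v ≠ a) : ∃ u ∈ U, u • b = v := by
  obtain ⟨u, hu, -⟩ := h.reg v hv
  exact ⟨u, u.2, hu⟩

theorem free {u : G} (hu : u ∈ U) {v : Ω} (hv : v ≠ a) (hfix : u • v = v) : u = 1 := by
  obtain ⟨w, hw, rfl⟩ := h.exists_U hv
  rw [← mul_smul, h.comm u hu w hw, mul_smul, smul_left_cancel_iff] at hfix
  exact congrArg Subtype.val ((h.reg b h.setup.ne_ab.symm).unique
    (y₁ := ⟨u, hu⟩) (y₂ := 1) hfix (one_smul G b))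

theorem card_U : Nat.card U = p ^ 2 := by
  classical
  have e : Nat.card U = Nat.card ({a}ᶜ : Set Ω) :=
    Nat.card_eq_of_bijective (fun u : U => (⟨(u : G) • b, fun e =>
      h.smul_ne (h.U_fix u.2) h.setup.ne_ab.symm e⟩ : ({a}ᶜ : Set Ω)))
      ⟨fun u v e => (h.reg _ (h.smul_ne (h.U_fix v.2) h.setup.ne_ab.symm)).unique
        (congrArg Subtype.val e) rfl, fun x => by
        obtain ⟨u, hu, -⟩ := h.reg x.1 x.2
        exact ⟨u, Subtype.ext hu⟩⟩
  rw [e, Nat.card_coe_set_eq, Set.ncard_compl, Set.ncard_singleton, h.setup.card_eq,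
    Nat.add_sub_cancel]

theorem mem_blk_smul {g : G} (hg : g ∈ blkKer G a B a) {v w : Ω} (hv : v ≠ a)
    (hw : w ∈ blk G a B a v) : g • w ∈ blk G a B a v :=
  hg.2 v hv ▸ Set.smul_mem_smul_set hw

theorem smul_B_of_ker {g : G} (hg : g ∈ blkKer G a B a) : g • B = B := by
  have := hg.2 b h.setup.ne_ab.symm
  rwa [h.setup.blk_self] at this

theorem conj_mem {g : G} (hga : g • a = a) {k : G} (hk : k ∈ blkKer G a B a) :
    g * k * g⁻¹ ∈ blkKer G a B a := by
  have hga' : g⁻¹ • a = a := by rw [inv_smul_eq_iff, hga]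
  refine ⟨by rw [mul_smul, mul_smul, hga', hk.1, hga], fun v hv => ?_⟩
  rw [mul_smul, mul_smul, h.setup.smul_blk_of_fix hga' hv, hk.2 _ (h.smul_ne hga' hv),
    h.setup.smul_blk_of_fix hga (h.smul_ne hga' hv), smul_inv_smul]

theorem exists_cycle : ∃ x : G, x ∈ U ∧ x ^ p = 1 ∧ x • b ≠ b ∧ x ∈ blkKer G a B a ∧
    (∀ w ∈ B, ∃ i : ZMod p, x ^ i.val • b = w) ∧ ∀ u ∈ U, u ^ p • B = B := by
  classical
  have hp := Fact.mk h.setup.prime
  let T : Subgroup U :=
    { carrier := {u | (u : G) • B = B}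
      one_mem' := one_smul G B
      mul_mem' := fun {u v} (hu : (u : G) • B = B) (hv : (v : G) • B = B) => by
        show ((u : G) * v) • B = B
        rw [mul_smul, hv, hu]
      inv_mem' := fun {u} (hu : (u : G) • B = B) => by
        show (u : G)⁻¹ • B = B
        rw [inv_smul_eq_iff, hu] }
  have hT : Nat.card T = p := by
    rw [← h.setup.ncard_eq, ← Nat.card_coe_set_eq]
    refine Nat.card_eq_of_bijective (fun t : T => (⟨((t : U) : G) • b,
      (t.2 : ((t : U) : G) • B = B) ▸ Set.smul_mem_smul_set h.setup.b_mem⟩ : B)) ⟨?_, ?_⟩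
    · intro s t e
      exact Subtype.ext ((h.reg _ (h.smul_ne (h.U_fix (t : U).2) h.setup.ne_ab.symm)).unique
        (congrArg Subtype.val e) rfl)
    · intro w
      obtain ⟨u, hu, hub⟩ := h.exists_U (v := (w : Ω)) fun e => h.setup.a_notMem (e ▸ w.2)
      exact ⟨⟨⟨u, hu⟩, h.setup.block u (h.U_fix hu) b h.setup.b_mem (hub ▸ w.2)⟩,
        Subtype.ext hub⟩
  obtain ⟨t, ht⟩ : ∃ t : T, t ≠ 1 := by
    have : Nontrivial T := Finite.one_lt_card_iff_nontrivial.1 (hT ▸ h.setup.prime.one_lt)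
    exact exists_ne 1
  have htp : ((t : U) : G) ^ p = 1 := by
    have h1 : t ^ p = 1 := hT ▸ pow_card_eq_one'
    exact congrArg (fun s : T => ((s : U) : G)) h1
  have htb : ((t : U) : G) • b ≠ b := fun e =>
    ht (Subtype.ext (Subtype.ext (h.free (t : U).2 h.setup.ne_ab.symm e)))
  refine ⟨((t : U) : G), (t : U).2, htp, htb, ⟨h.U_fix (t : U).2, fun v hv => ?_⟩, fun w hw => ?_,
    fun u hu => ?_⟩
  · obtain ⟨u, hu, rfl⟩ := h.exists_U hv
    rw [h.setup.blk_eq_smul (h.U_fix hu) rfl, ← mul_smul, h.comm _ (t : U).2 u hu, mul_smul,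
      show ((t : U) : G) • B = B from t.2]
  · obtain ⟨u, hu, hub⟩ := h.exists_U (v := w) fun e => h.setup.a_notMem (e ▸ hw)
    have hzp : Subgroup.zpowers t = ⊤ := zpowers_eq_top_of_prime_card hT ht
    let s : T := ⟨⟨u, hu⟩, h.setup.block u (h.U_fix hu) b h.setup.b_mem (hub ▸ hw)⟩
    have hmem : s ∈ Submonoid.powers t :=
      mem_powers_iff_mem_zpowers.2 (hzp ▸ Subgroup.mem_top s)
    obtain ⟨n, hn⟩ := hmem
    refine ⟨(n : ZMod p), ?_⟩
    have hn' : ((t : U) : G) ^ n = u := congrArg (fun s : T => ((s : U) : G)) hn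
    rw [ZMod.val_natCast, ← pow_eq_pow_mod _ htp, hn', hub]
  · have : T.Normal := ⟨fun n hn g => by
      rw [show g * n = n * g from Subtype.ext (h.comm g g.2 n n.2), mul_assoc, mul_inv_cancel,
        mul_one]
      exact hn⟩
    have hidx : T.index = p := by
      have h1 := Subgroup.card_mul_index T
      rw [hT, h.card_U, pow_two] at h1
      exact Nat.eq_of_mul_eq_mul_left h.setup.prime.pos h1
    exact hidx ▸ Subgroup.pow_index_mem T (⟨u, hu⟩ : U)

section Cycle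

variable {x : G} (hxU : x ∈ U) (hxp : x ^ p = 1) (hxb : x • b ≠ b)
  (hxK : x ∈ blkKer G a B a) (hxB : ∀ w ∈ B, ∃ i : ZMod p, x ^ i.val • b = w)
include hxU hxp hxb hxK hxB

theorem pow_add' [NeZero p] (i j : ZMod p) : x ^ (i + j).val = x ^ i.val * x ^ j.val := by
  rw [ZMod.val_add, ← pow_eq_pow_mod _ hxp, pow_add]

theorem pow_ne_one [NeZero p] {i : ZMod p} (hi : i ≠ 0) : x ^ i.val ≠ 1 := by
  intro e
  have hx1 : orderOf x = p := by
    have := Fact.mk h.setup.prime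
    exact orderOf_eq_prime hxp fun e1 => hxb (by rw [e1, one_smul])
  rw [← orderOf_dvd_iff_pow_eq_one, hx1] at e
  exact hi ((ZMod.val_eq_zero i).1 (Nat.eq_zero_of_dvd_of_lt e (ZMod.val_lt i)))

theorem exists_pow_of_mem [NeZero p] {v w : Ω} (hv : v ≠ a) (hw : w ∈ blk G a B a v) :
    ∃ i : ZMod p, x ^ i.val • v = w := by
  obtain ⟨u, hu, rfl⟩ := h.exists_U hv
  rw [h.setup.blk_eq_smul (h.U_fix hu) rfl] at hw
  obtain ⟨z, hz, rfl⟩ := hw
  obtain ⟨i, rfl⟩ := hxB z hz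
  exact ⟨i, by
    show x ^ i.val • u • b = u • x ^ i.val • b
    rw [← mul_smul, ← mul_smul, h.comm _ (pow_mem hxU _) u hu]⟩

theorem pow_smul_injective [NeZero p] {v : Ω} (hv : v ≠ a) :
    Function.Injective fun i : ZMod p => x ^ i.val • v := by
  intro i j hij
  simp only at hij
  by_contra hne
  refine h.pow_ne_one hxU hxp hxb hxK hxB (sub_ne_zero.2 hne) (h.free (pow_mem hxU _)
    (h.smul_ne (h.U_fix (pow_mem hxU _)) hv) (v := x ^ j.val • v) ?_)
  rw [← mul_smul, ← h.pow_add' hxU hxp hxb hxK hxB, sub_add_cancel, hij]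

/-- The kernel is faithful on `B`. -/
theorem eq_one_of_fix_B {g : G} (hg : g ∈ blkKer G a B a) (hfix : ∀ w ∈ B, g • w = w) :
    g = 1 := by
  classical
  have hp := Fact.mk h.setup.prime
  let L : Subgroup G := blkKer G a B a ⊓ fixingSubgroup G B
  have hLS : L ≤ stabilizer G a ⊓ stabilizer G b := fun l hl =>
    ⟨hl.1.1, (mem_fixingSubgroup_iff G).1 hl.2 b h.setup.b_mem⟩
  have hconj : ∀ l ∈ L, ∀ n : ℕ, x ^ n * l * (x ^ n)⁻¹ ∈ L := by
    intro l hl n
    refine ⟨h.conj_mem (h.U_fix (pow_mem hxU n)) hl.1, (mem_fixingSubgroup_iff G).2 fun w hw => ?_⟩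
    have hw' : (x ^ n)⁻¹ • w ∈ B := by
      rw [← h.smul_B_of_ker (inv_mem (pow_mem hxK n))]
      exact Set.smul_mem_smul_set hw
    rw [mul_smul, mul_smul, (mem_fixingSubgroup_iff G).1 hl.2 _ hw', smul_inv_smul]
  have hgL : g ∈ L := ⟨hg, (mem_fixingSubgroup_iff G).2 hfix⟩
  have := h.setup.faithful
  refine eq_of_smul_eq_smul (α := Ω) fun v => ?_
  rw [one_smul]
  by_cases hva : v = a
  · subst hva
    exact hg.1
  by_contra hgv
  obtain ⟨i, hi⟩ := h.exists_pow_of_mem hxU hxp hxb hxK hxB hva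
    (h.mem_blk_smul hg hva (h.setup.mem_blk (Ne.symm hva)))
  have hi0 : i ≠ 0 := fun e => hgv (by rw [← hi, e, ZMod.val_zero, pow_zero, one_smul])
  have hmul : ∀ n : ℕ, x ^ ((n : ZMod p) * i).val • v ∈ orbit L v := by
    intro n
    induction n with
    | zero =>
      rw [Nat.cast_zero, zero_mul, ZMod.val_zero, pow_zero, one_smul]
      exact mem_orbit_self v
    | succ n ih =>
      obtain ⟨l, hl⟩ := ih
      have hl' : (l : G) • v = x ^ ((n : ZMod p) * i).val • v := hl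
      rw [Nat.cast_succ, add_mul, one_mul, add_comm, h.pow_add' hxU hxp hxb hxK hxB, mul_smul,
        ← hl']
      refine ⟨⟨x ^ i.val * (l : G) * (x ^ i.val)⁻¹, hconj l l.2 _⟩ * ⟨g, hgL⟩, ?_⟩
      show (x ^ i.val * (l : G) * (x ^ i.val)⁻¹ * g) • v = _
      rw [mul_smul, ← hi, mul_smul, mul_smul, inv_smul_smul]
  have hall : blk G a B a v ⊆ orbit L v := by
    intro w hw
    obtain ⟨j, rfl⟩ := h.exists_pow_of_mem hxU hxp hxb hxK hxB hva hw
    have := hmul (j * i⁻¹).val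
    rwa [ZMod.natCast_zmod_val, mul_assoc, inv_mul_cancel₀ hi0, mul_one] at this
  have horb : orbit L v = blk G a B a v := by
    refine (Set.Subset.antisymm hall ?_).symm
    rintro _ ⟨l, rfl⟩
    exact h.mem_blk_smul l.2.1 hva (h.setup.mem_blk (Ne.symm hva))
  have h1 := Subgroup.card_mul_index (stabilizer L v)
  rw [index_stabilizer, horb, h.setup.ncard_blk (Ne.symm hva)] at h1
  exact h.not_dvd ((Dvd.intro_left _ h1).trans (Subgroup.card_dvd_of_le hLS))

/-- The kernel is faithful on every block. -/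
theorem eq_one_of_fix_blk {g : G} (hg : g ∈ blkKer G a B a) {v : Ω} (hv : v ≠ a)
    (hfix : ∀ w ∈ blk G a B a v, g • w = w) : g = 1 := by
  obtain ⟨u, hu, rfl⟩ := h.exists_U hv
  rw [h.setup.blk_eq_smul (h.U_fix hu) rfl] at hfix
  have h1 : u⁻¹ * g * u = 1 := by
    refine h.eq_one_of_fix_B hxU hxp hxb hxK hxB ?_ fun w hw => ?_
    · simpa using h.conj_mem (h.U_fix (inv_mem hu)) hg
    · rw [mul_smul, mul_smul, hfix _ (Set.smul_mem_smul_set hw), inv_smul_smul]
  rwa [mul_assoc, inv_mul_eq_one, eq_comm, mul_eq_right] at h1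

theorem card_kerStab {v : Ω} (hv : v ≠ a) :
    Nat.card (kerStab G a B a v) = Nat.card (kerStab G a B a b) := by
  obtain ⟨u, hu, rfl⟩ := h.exists_U hv
  refine Nat.card_congr (Equiv.subtypeEquiv (MulAut.conj u⁻¹).toEquiv fun g => ?_)
  simp only [mem_kerStab, MulEquiv.toEquiv_eq_coe, EquivLike.coe_coe, MulAut.conj_apply, inv_inv]
  refine and_congr ⟨fun hg => by simpa using h.conj_mem (h.U_fix (inv_mem hu)) hg, fun hg => ?_⟩
    ⟨fun e => by rw [mul_smul, mul_smul, e, inv_smul_smul], fun e => ?_⟩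
  · have := h.conj_mem (h.U_fix hu) hg
    simpa [mul_assoc] using this
  · rwa [mul_smul, mul_smul, inv_smul_eq_iff] at e

theorem kerStab_eq_of_fix {v w : Ω} (hv : v ≠ a) (hw : w ≠ a)
    (hfix : ∀ g ∈ kerStab G a B a v, g • w = w) : kerStab G a B a v = kerStab G a B a w := by
  refine Subgroup.eq_of_le_of_card_ge (fun g hg => ⟨hg.1, hfix g hg⟩) ?_
  rw [h.card_kerStab hxU hxp hxb hxK hxB hw, h.card_kerStab hxU hxp hxb hxK hxB hv]

/-- A non-trivial `kerStab` fixes at most one point of each block. -/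
theorem fix_unique (hne : kerStab G a B a b ≠ ⊥) {v w : Ω} (hv : v ≠ a)
    (hfv : v ∈ fixSet G a B a b) (hw : w ∈ blk G a B a v) (hfw : w ∈ fixSet G a B a b) :
    w = v := by
  classical
  have hp := Fact.mk h.setup.prime
  by_contra hwv
  have hH := h.kerStab_eq_of_fix hxU hxp hxb hxK hxB h.setup.ne_ab.symm hv hfv
  obtain ⟨i, rfl⟩ := h.exists_pow_of_mem hxU hxp hxb hxK hxB hv hw
  have hi0 : i ≠ 0 := fun e => hwv (by rw [e, ZMod.val_zero, pow_zero, one_smul])
  have hwa : x ^ i.val • v ≠ a := h.smul_ne (h.U_fix (pow_mem hxU _)) hv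
  have hH' := h.kerStab_eq_of_fix hxU hxp hxb hxK hxB h.setup.ne_ab.symm hwa hfw
  have hn : ∀ n : ℕ, ∀ g ∈ kerStab G a B a b,
      g • x ^ ((n : ZMod p) * i).val • v = x ^ ((n : ZMod p) * i).val • v := by
    intro n
    induction n with
    | zero => simpa [hH] using fun g (hg : g ∈ kerStab G a B a v) => hg.2
    | succ n ih =>
      intro g hg
      rw [Nat.cast_succ, add_mul, one_mul, add_comm, h.pow_add' hxU hxp hxb hxK hxB, mul_smul]
      have hg' : g ∈ kerStab G a B a (x ^ i.val • v) := hH' ▸ hg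
      have hc : (x ^ i.val)⁻¹ * g * x ^ i.val ∈ kerStab G a B a b := by
        rw [hH]
        refine ⟨?_, ?_⟩
        · simpa using h.conj_mem (h.U_fix (inv_mem (pow_mem hxU i.val))) hg'.1
        · show ((x ^ i.val)⁻¹ * g * x ^ i.val) • v = v
          rw [mul_smul, mul_smul, inv_smul_eq_iff]
          exact hg'.2
      have := ih _ hc
      rwa [mul_smul, mul_smul, inv_smul_eq_iff] at this
  refine hne ((Subgroup.eq_bot_iff_forall _).2 fun g hg =>
    h.eq_one_of_fix_blk hxU hxp hxb hxK hxB hg.1 hv fun z hz => ?_)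
  obtain ⟨j, rfl⟩ := h.exists_pow_of_mem hxU hxp hxb hxK hxB hv hz
  have := hn (j * i⁻¹).val g hg
  rwa [ZMod.natCast_zmod_val, mul_assoc, inv_mul_cancel₀ hi0, mul_one] at this

/-- `G_ab` is transitive on `B ∖ b` via the kernel, or normalises the cycle. -/
theorem kerStab_transitive_or_linear [hp : Fact p.Prime] :
    (∀ z ∈ B, ∀ z' ∈ B, z ≠ b → z' ≠ b → ∃ g ∈ kerStab G a B a b, g • z = z') ∨
      ∀ g ∈ kerStab G a B a b, ∃ l : ZMod p, g * x * g⁻¹ = x ^ l.val := by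
  have horb : orbit (blkKer G a B a) b = B := by
    refine Set.ext fun w => ⟨?_, fun hw => ?_⟩
    · rintro ⟨g, rfl⟩
      have h1 : (g : G) • b ∈ (g : G) • B := Set.smul_mem_smul_set h.setup.b_mem
      rwa [h.smul_B_of_ker g.2] at h1
    · obtain ⟨i, rfl⟩ := hxB w hw
      exact ⟨⟨x ^ i.val, pow_mem hxK _⟩, rfl⟩
  have key := transitive_or_linear (Γ := blkKer G a B a) (p := p) ⟨x, hxK⟩ b
    (by rw [horb, h.setup.ncard_eq]) hxb
    (show (x ^ p) • b = b by rw [hxp, one_smul])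
  rcases key with htr | hlin
  · refine Or.inl fun z hz z' hz' hzb hzb' => ?_
    obtain ⟨g, hg1, hg2⟩ := htr z (horb.symm ▸ hz) z' (horb.symm ▸ hz') hzb hzb'
    exact ⟨g, ⟨g.2, hg1⟩, hg2⟩
  · refine Or.inr fun g hg => ?_
    obtain ⟨l, hl⟩ := hlin ⟨g, hg.1⟩ hg.2
    refine ⟨l, ?_⟩
    have hl' : ∀ i : ZMod p, g • x ^ i.val • b = x ^ (l * i).val • b := hl
    have h1 : (x ^ l.val)⁻¹ * (g * x * g⁻¹) = 1 := by
      refine h.eq_one_of_fix_B hxU hxp hxb hxK hxB
        (mul_mem (inv_mem (pow_mem hxK _)) (h.conj_mem hg.1.1 hxK)) fun w hw => ?_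
      have hw' : g⁻¹ • w ∈ B := h.smul_B_of_ker (inv_mem hg.1) ▸ Set.smul_mem_smul_set hw
      obtain ⟨i, hi⟩ := hxB _ hw'
      have hw2 : w = x ^ (l * i).val • b := by rw [← hl', hi, smul_inv_smul]
      rw [mul_smul, mul_smul, mul_smul, inv_smul_eq_iff]
      rw [← hi, show x • x ^ i.val • b = x ^ (1 + i).val • b by
        rw [h.pow_add' hxU hxp hxb hxK hxB, mul_smul, ZMod.val_one, pow_one], hl', mul_add,
        mul_one, h.pow_add' hxU hxp hxb hxK hxB, mul_smul, ← hw2]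
    rwa [inv_mul_eq_one, eq_comm] at h1

end Cycle

end HasKernel

end Cfsg.Agent.Lib.DoublyPrim
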