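import Mathlib.RingTheory.Polynomial.Cyclotomic.Roots
import Mathlib.FieldTheory.KummerPolynomial
import Mathlib.NumberTheory.Cyclotomic.PrimitiveRoots
import Mathlib.NumberTheory.LegendreSymbol.AddCharacter
import Mathlib.Algebra.MonoidAlgebra.Basic
import Mathlib.Algebra.CharP.Lemmas

/-!
# Circulants with scalar `p`-th power

A subset `D` of `ℤ/p` whose `p`-fold convolution power is constant off one point has
`0`, `1`, `p - 1` or `p` elements.
-/

namespace Cfsg.Agent.Lib.DoublyPrim.Circulant

open Finset Polynomial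

variable {p : ℕ}

/-- The number of ways to write `w` as a sum of `i` elements of `D`. -/
def conv (D : Finset (ZMod p)) : ℕ → ZMod p → ℤ
  | 0, w => if w = 0 then 1 else 0
  | i + 1, w => ∑ x ∈ D, conv D i (w - x)

variable [NeZero p]

theorem sum_conv_mul {R : Type*} [CommRing R] (χ : AddChar (ZMod p) R) (D : Finset (ZMod p))
    (i : ℕ) : ∑ w, (conv D i w : R) * χ w = (∑ x ∈ D, χ x) ^ i := by
  induction i with
  | zero => simp [conv, apply_ite (Int.cast : ℤ → R), ite_mul]
  | succ i ih =>
    simp only [conv, Int.cast_sum, sum_mul]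
    rw [sum_comm, pow_succ, mul_sum]
    refine sum_congr rfl fun x _ => ?_
    rw [← ih, sum_mul, ← Equiv.sum_comp (Equiv.addRight x)]
    refine sum_congr rfl fun u _ => ?_
    simp [AddChar.map_add_eq_mul, mul_assoc]

theorem conv_prime_mod [hp : Fact p.Prime] (D : Finset (ZMod p)) (w : ZMod p) :
    (conv D p w : ZMod p) = if w = 0 then (D.card : ZMod p) else 0 := by
  classical
  have : CharP (AddMonoidAlgebra (ZMod p) (ZMod p)) p :=
    charP_of_injective_ringHom (f := AddMonoidAlgebra.singleZeroRingHom)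
      (fun a b (hab : AddMonoidAlgebra.single (0 : ZMod p) a = AddMonoidAlgebra.single 0 b) => by
        simpa using congrArg (fun f : AddMonoidAlgebra (ZMod p) (ZMod p) => f.coeff 0) hab) p
  have : ExpChar (AddMonoidAlgebra (ZMod p) (ZMod p)) p := ExpChar.prime hp.out
  let χ : AddChar (ZMod p) (AddMonoidAlgebra (ZMod p) (ZMod p)) :=
    { toFun := fun j => AddMonoidAlgebra.single j 1
      map_zero_eq_one' := rfl
      map_add_eq_mul' := fun a b => by simp [AddMonoidAlgebra.single_mul_single] }
  have h := sum_conv_mul χ D p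
  rw [sum_pow_char p] at h
  have h1 : ∀ x : ZMod p, χ x ^ p = AddMonoidAlgebra.single (0 : ZMod p) (1 : ZMod p) := by
    intro x
    show AddMonoidAlgebra.single x (1 : ZMod p) ^ p = _
    rw [AddMonoidAlgebra.single_pow, one_pow, nsmul_eq_mul, ZMod.natCast_self, zero_mul]
  simp only [h1, sum_const] at h
  have h3 : ∀ x : ZMod p, (conv D p x : AddMonoidAlgebra (ZMod p) (ZMod p)) * χ x =
      AddMonoidAlgebra.single x (conv D p x : ZMod p) := by
    intro x
    rw [← zsmul_eq_mul]
    show conv D p x • AddMonoidAlgebra.single x (1 : ZMod p) = _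
    rw [AddMonoidAlgebra.smul_single, zsmul_eq_mul, mul_one]
  simp only [h3] at h
  have h2 := congrArg (fun f : AddMonoidAlgebra (ZMod p) (ZMod p) => f.coeff w) h
  simpa [AddMonoidAlgebra.coeff_sum, Finsupp.finsetSum_apply, Finsupp.single_apply, eq_comm]
    using h2

theorem coeff_eq_of_sum_eq_zero [hp : Fact p.Prime] {K : Type*} [Field K] [CharZero K] {ζ : K}
    (hζ : IsPrimitiveRoot ζ p) (c : ZMod p → ℚ) (h : ∑ j, (c j : K) * ζ ^ j.val = 0)
    (i j : ZMod p) : c i = c j := by
  classical
  set f : ℚ[X] := ∑ j : ZMod p, C (c j) * X ^ j.val with hf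
  have hev : aeval ζ f = 0 := by
    rw [hf, map_sum, ← h]
    exact sum_congr rfl fun j _ => by simp
  have hco : ∀ k : ZMod p, f.coeff k.val = c k := by
    intro k
    rw [hf, finsetSum_coeff, sum_eq_single k]
    · simp
    · intro m _ hmk
      simp [coeff_C_mul, coeff_X_pow, (ZMod.val_injective p).eq_iff, Ne.symm hmk]
    · simp
  have hdvd : cyclotomic p ℚ ∣ f := by
    rw [cyclotomic_eq_minpoly_rat hζ hp.out.pos]
    exact minpoly.dvd ℚ ζ hev
  obtain ⟨q, hq⟩ := hdvd
  have hdeg : f.natDegree ≤ p - 1 := by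
    rw [hf]
    refine natDegree_sum_le_of_forall_le _ _ fun j _ => (natDegree_C_mul_le _ _).trans ?_
    rw [natDegree_X_pow]
    have := ZMod.val_lt j
    omega
  have hqd : q.natDegree = 0 := by
    rcases eq_or_ne q 0 with h0 | h0
    · simp [h0]
    · have h1 := congrArg natDegree hq
      rw [natDegree_mul (cyclotomic_ne_zero p ℚ) h0, natDegree_cyclotomic,
        Nat.totient_prime hp.out] at h1
      omega
  rw [eq_C_of_natDegree_eq_zero hqd] at hq
  have hc : ∀ k : ZMod p, c k = q.coeff 0 := by
    intro k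
    rw [← hco k, hq, coeff_mul_C, cyclotomic_prime, finsetSum_coeff]
    simp [coeff_X_pow, ZMod.val_lt k]
  rw [hc i, hc j]

/-- A subset with convolution power constant off one point is trivial. -/
theorem card_le_one_or_ge [hp : Fact p.Prime] (hp3 : 3 ≤ p) (D : Finset (ZMod p))
    (w0 : ZMod p) (β : ℤ) (h : ∀ w, w ≠ w0 → conv D p w = β) :
    D.card ≤ 1 ∨ p ≤ D.card + 1 := by
  classical
  have hle : D.card ≤ p := (card_le_univ D).trans_eq (ZMod.card p)
  by_cases hw : w0 = 0
  · subst hw
    let K := CyclotomicField p ℚ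
    have : IsCyclotomicExtension {p} ℚ K := CyclotomicField.isCyclotomicExtension p ℚ
    have hζ := IsCyclotomicExtension.zeta_spec p ℚ K
    set ζ := IsCyclotomicExtension.zeta p ℚ K
    let χ : AddChar (ZMod p) K := AddChar.zmodChar p hζ.pow_eq_one
    have hχ : ∀ j : ZMod p, χ j = ζ ^ j.val := fun j => AddChar.zmodChar_apply hζ.pow_eq_one j
    set z : K := ∑ x ∈ D, χ x with hz
    have hfull : ∑ w, χ w = 0 :=
      (AddChar.sum_eq_zero_iff_ne_zero).2 fun h0 => by
        have h1 := DFunLike.congr_fun h0 (1 : ZMod p)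
        rw [hχ, ZMod.val_one, pow_one, AddChar.zero_apply] at h1
        exact hζ.ne_one hp.out.one_lt h1
    have hpow : z ^ p = algebraMap ℚ K ((conv D p 0 - β : ℤ) : ℚ) := by
      rw [hz, ← sum_conv_mul]
      have h1 : ∀ w, (conv D p w : K) * χ w =
          (β : K) * χ w + (if w = 0 then ((conv D p 0 - β : ℤ) : K) else 0) := by
        intro w
        split_ifs with hw'
        · subst hw'
          simp
        · rw [h w hw', add_zero]
      rw [sum_congr rfl fun w _ => h1 w, sum_add_distrib, ← mul_sum, hfull]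
      simp
    set α : ℚ := ((conv D p 0 - β : ℤ) : ℚ)
    obtain ⟨r, hr⟩ : ∃ r : ℚ, r ^ p = α := by
      by_contra! hno
      have hirr := X_pow_sub_C_irreducible_of_prime hp.out hno
      have hev : aeval z (X ^ p - C α) = 0 := by simp [hpow]
      have hmon : (X ^ p - C α).Monic := monic_X_pow_sub_C α hp.out.ne_zero
      have hmin := minpoly.eq_of_irreducible_of_monic hirr hev hmon
      have hfin := minpoly.natDegree_le (A := ℚ) z
      rw [← hmin, natDegree_X_pow_sub_C, IsCyclotomicExtension.finrank K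
        (cyclotomic.irreducible_rat hp.out.pos), Nat.totient_prime hp.out] at hfin
      omega
    rw [← hr, map_pow] at hpow
    obtain ⟨i, hi⟩ : ∃ i : ZMod p, z = (r : K) * ζ ^ i.val := by
      rcases eq_or_ne (algebraMap ℚ K r) 0 with h0 | h0
      · rw [h0, zero_pow hp.out.ne_zero, pow_eq_zero_iff hp.out.ne_zero] at hpow
        rw [eq_ratCast] at h0
        exact ⟨0, by rw [hpow, h0, zero_mul]⟩
      · obtain ⟨n, hn, hnz⟩ := hζ.eq_pow_of_pow_eq_one (ξ := z / algebraMap ℚ K r)
          (by rw [div_pow, hpow, div_self (pow_ne_zero _ h0)])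
        refine ⟨(n : ZMod p), ?_⟩
        rw [ZMod.val_natCast, Nat.mod_eq_of_lt hn, hnz, ← eq_ratCast (algebraMap ℚ K) r,
          mul_div_cancel₀ _ h0]
    let c : ZMod p → ℚ := fun j => (if j ∈ D then 1 else 0) - if j = i then r else 0
    have hc : ∑ j, (c j : K) * ζ ^ j.val = 0 := by
      have h2 : ∀ j, (c j : K) * ζ ^ j.val =
          (if j ∈ D then χ j else 0) - (if j = i then (r : K) * ζ ^ j.val else 0) := by
        intro j
        simp only [c]
        split_ifs <;> simp [hχ, sub_mul] <;> exact neg_mul _ _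
      rw [sum_congr rfl fun j _ => h2 j, sum_sub_distrib, sum_ite_eq' , if_pos (mem_univ _),
        ← sum_filter, filter_univ_mem, ← hi, sub_eq_zero]
    have hall : ∀ j k : ZMod p, j ≠ i → k ≠ i → (j ∈ D ↔ k ∈ D) := by
      intro j k hj hk
      have h3 := coeff_eq_of_sum_eq_zero hζ c hc j k
      simp only [c, if_neg hj, if_neg hk, sub_zero] at h3
      by_cases hjD : j ∈ D <;> by_cases hkD : k ∈ D <;> simp_all
    by_cases hex : ∃ j, j ≠ i ∧ j ∈ D
    · obtain ⟨j, hj, hjD⟩ := hex
      refine Or.inr ?_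
      have hsub : (univ : Finset (ZMod p)).erase i ⊆ D := fun k hk =>
        (hall j k hj (ne_of_mem_erase hk)).1 hjD
      have := card_le_card hsub
      rw [card_erase_of_mem (mem_univ i), card_univ, ZMod.card] at this
      omega
    · push Not at hex
      refine Or.inl (card_le_one.2 fun a ha b hb => ?_)
      rw [show a = i from by_contra fun hne => hex a hne ha,
        show b = i from by_contra fun hne => hex b hne hb]
  · obtain ⟨w, -, hw'⟩ := exists_mem_notMem_of_card_lt_card (s := ({0, w0} : Finset (ZMod p)))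
      (t := univ) (by
        rw [card_univ, ZMod.card]
        exact lt_of_le_of_lt card_le_two (by omega))
    simp only [mem_insert, mem_singleton, not_or] at hw'
    have h0 := conv_prime_mod D 0
    have h1 := conv_prime_mod D w
    rw [h 0 (Ne.symm hw), if_pos rfl] at h0
    rw [h w hw'.2, if_neg hw'.1, h0, ZMod.natCast_eq_zero_iff] at h1
    rcases Nat.eq_zero_or_pos D.card with h2 | h2
    · exact Or.inl (by omega)
    · exact Or.inr (by have := Nat.le_of_dvd h2 h1; omega)

end Cfsg.Agent.Lib.DoublyPrim.Circulant
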