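import Cfsg.Agent.Lib.DoublyPrim.Main
import Cfsg.Agent.Lib.Zassenhaus.AbelianCases
import Cfsg.Agent.Lib.Perm.Regular
import Cfsg.Agent.Lib.Perm.Sharply2

/-!
# No imprimitive point stabiliser in degree `p² + 1`, `p` odd; order 20 for `p = 2`
-/

set_option linter.unusedSectionVars false

namespace Cfsg.Agent.Lib.DoublyPrim

open MulAction
open scoped Pointwise

variable {G Ω : Type*} [Group G] [MulAction G Ω] [Finite G] [Finite Ω]

/-- `p² + 1` is no prime power for odd `p`. -/
theorem not_prime_pow {p q k : ℕ} (hp : Odd p) (hp3 : 3 ≤ p) (hq : q.Prime)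
    (h : p ^ 2 + 1 = q ^ k) : False := by
  obtain ⟨m, rfl⟩ := hp
  have h2 : 2 ∣ q ^ k := ⟨2 * m * m + 2 * m + 1, by rw [← h]; ring⟩
  obtain rfl : q = 2 := ((Nat.prime_dvd_prime_iff_eq Nat.prime_two hq).1
    (Nat.prime_two.dvd_of_dvd_pow h2)).symm
  have h3 : (2 * m + 1) ^ 2 + 1 = 4 * (m * m + m) + 2 := by ring
  rw [h3] at h
  match k, h with
  | 0, h =>
    rw [pow_zero] at h
    omega
  | 1, h =>
    have : 1 ≤ m := by omega
    have := Nat.mul_le_mul this this
    omega
  | k + 2, h =>
    have : 4 ∣ 2 ^ (k + 2) := ⟨2 ^ k, by ring⟩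
    omega

theorem IsSetup.false_of_odd {p : ℕ} {a b : Ω} {B : Set Ω} (h : IsSetup G p a b B)
    (hp : Odd p) : False := by
  classical
  have hpF := Fact.mk h.prime
  have hp3 : 3 ≤ p := by
    obtain ⟨m, rfl⟩ := hp
    have := h.two_le
    omega
  have := h.faithful
  have h2 := h.two
  have := Fintype.ofFinite Ω
  obtain ⟨U, hUa, hUc, hUr, hnd⟩ := h.exists_kernel
  have hK : HasKernel G p a b B U := ⟨h, hUa, hUc, hUr, hnd⟩
  obtain ⟨x, hxU, hxp, hxb, hxK, hxB, hUp⟩ := hK.exists_cycle
  obtain ⟨hfix, hle⟩ := hK.pair_facts hxU hxp hxb hxK hxB hUp hp3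
  set S := stabilizer G a ⊓ stabilizer G b with hS
  have hthree : ∀ g : G, ∀ u v w : Ω, u ≠ v → v ≠ w → u ≠ w → g • u = u → g • v = v →
      g • w = w → g = 1 := by
    intro g u v w huv hvw huw hu hv hw
    obtain ⟨s, rfl, rfl⟩ := h.exists_map huv
    have h1 : s⁻¹ * g * s = 1 := by
      refine hfix _ ?_ ?_ (s⁻¹ • w) ?_ ?_ ?_
      · rw [mul_smul, mul_smul, hu, inv_smul_smul]
      · rw [mul_smul, mul_smul, hv, inv_smul_smul]
      · exact fun e => huw (by rw [← e, smul_inv_smul])
      · exact fun e => hvw (by rw [← e, smul_inv_smul])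
      · rw [mul_smul, mul_smul, smul_inv_smul, hw]
    rwa [mul_assoc, inv_mul_eq_one, eq_comm, mul_eq_right] at h1
  by_cases hS1 : S = ⊥
  · have hsharp : ∀ e : Fin 2 ↪ Ω, stabilizer G e = ⊥ := by
      intro e
      refine (Subgroup.eq_bot_iff_forall _).2 fun g hg => ?_
      have he : ∀ i, g • e i = e i := fun i => by
        have := congrArg (fun f : Fin 2 ↪ Ω => f i) (mem_stabilizer_iff.1 hg)
        exact this
      obtain ⟨s, hsa, hsb⟩ := h.exists_map
        (show e 0 ≠ e 1 from fun hh => absurd (e.injective hh) (by decide))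
      have h1 : s⁻¹ * g * s ∈ S := ⟨by
        show (s⁻¹ * g * s) • a = a
        rw [mul_smul, mul_smul, hsa, he 0, inv_smul_eq_iff, hsa], by
        show (s⁻¹ * g * s) • b = b
        rw [mul_smul, mul_smul, hsb, he 1, inv_smul_eq_iff, hsb]⟩
      rw [hS1, Subgroup.mem_bot] at h1
      rwa [mul_assoc, inv_mul_eq_one, eq_comm, mul_eq_right] at h1
    obtain ⟨q, j, -, hq, -, hcard, -⟩ := Cfsg.Agent.Lib.Perm.Sharply2.exists_kernel (α := Ω)
      hsharp (by rw [← Nat.card_eq_fintype_card, h.card_eq]; nlinarith)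
    rw [← Nat.card_eq_fintype_card, h.card_eq] at hcard
    exact not_prime_pow hp hp3 hq hcard
  have hZ : Cfsg.IsZassenhausGroup G Ω := by
    refine ⟨h.faithful, h2, hthree, ?_, fun N hN hNt => ?_⟩
    · obtain ⟨g, hg, hg1⟩ := (S.ne_bot_iff_exists_ne_one.1 hS1 |> fun ⟨g, hg⟩ =>
        (⟨g.1, g.2, fun e => hg (Subtype.ext e)⟩ : ∃ g, g ∈ S ∧ g ≠ 1))
      exact ⟨g, hg1, a, b, h.ne_ab, hg.1, hg.2⟩
    · by_contra! hreg
      obtain ⟨q, hq, -, hexp⟩ := Cfsg.Agent.Lib.Perm.Regular.elementary_of_two_transitive h2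
        (by rw [h.card_eq]; nlinarith) N hreg
      have := Fact.mk hq
      have hP : IsPGroup q N := fun n => ⟨1, Subtype.ext (by simpa using hexp n n.2)⟩
      obtain ⟨k, hk⟩ := IsPGroup.iff_card.1 hP
      rw [Cfsg.Agent.Lib.Perm.Basic.card_eq_of_regular (H := N) a (hreg a), h.card_eq] at hk
      exact not_prime_pow hp hp3 hq hk
  -- `U` is the set of fixed-point-free elements of `G_a`
  have := Fintype.ofFinite G
  set d := Nat.card S with hd
  let Z : Finset G := Finset.univ.filter fun g =>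
    g • a = a ∧ (g = 1 ∨ ∀ v, v ≠ a → g • v ≠ v)
  let A : Finset G := Finset.univ.filter fun g => g • a = a
  have hA : A.card = p ^ 2 * d := by
    rw [hd, hS, ← h.card_stabilizer, Nat.card_eq_fintype_card, Fintype.card_subtype]
    congr 1
  let V : Finset G := Finset.univ.filter fun g => g ∈ U
  have hV : V.card = p ^ 2 := by
    rw [← hK.card_U, Nat.card_eq_fintype_card, Fintype.card_subtype]
  have hVZ : V ⊆ Z := by
    intro u hu
    simp only [V, Finset.mem_filter, Finset.mem_univ, true_and] at hu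
    simp only [Z, Finset.mem_filter, Finset.mem_univ, true_and]
    refine ⟨hUa hu, ?_⟩
    by_cases hu1 : u = 1
    · exact Or.inl hu1
    · exact Or.inr fun v hv e => hu1 (hK.free hu hv e)
  have hZA : Z ⊆ A := fun g hg => by
    simp only [Z, A, Finset.mem_filter, Finset.mem_univ, true_and] at hg ⊢
    exact hg.1
  have hbig : p ^ 2 * (d - 1) ≤ (A \ Z).card := by
    let T : Finset G := (Finset.univ.filter fun g => g ∈ S).erase 1
    have hT : T.card = d - 1 := by
      rw [Finset.card_erase_of_mem (by simp [one_mem]), hd, Nat.card_eq_fintype_card,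
        Fintype.card_subtype]
    rw [← hV, ← hT, ← Finset.card_product]
    refine Finset.card_le_card_of_injOn (fun q => q.1 * q.2 * q.1⁻¹) ?_ ?_
    · rintro ⟨u, g⟩ hq
      simp only [Finset.mem_coe, Finset.mem_product, V, T, Finset.mem_filter, Finset.mem_erase,
        Finset.mem_univ, true_and] at hq
      obtain ⟨hu, hg1, hga, hgb⟩ := hq
      simp only [Finset.mem_coe, Finset.mem_sdiff, A, Z, Finset.mem_filter, Finset.mem_univ,
        true_and]
      have hconj : (u * g * u⁻¹) • a = a := by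
        rw [mul_smul, mul_smul, inv_smul_eq_iff.2 (hUa hu).symm, hga, hUa hu]
      refine ⟨hconj, ?_⟩
      rintro ⟨-, h1 | h1⟩
      · exact hg1 (by rwa [mul_inv_eq_one, mul_eq_left] at h1)
      · refine h1 (u • b) (hK.smul_ne (hUa hu) h.ne_ab.symm) ?_
        rw [mul_smul, mul_smul, inv_smul_smul, hgb]
    · rintro ⟨u, g⟩ hq ⟨v, k⟩ hq' e
      simp only [Finset.mem_coe, Finset.mem_product, V, T, Finset.mem_filter, Finset.mem_erase,
        Finset.mem_univ, true_and] at hq hq'
      obtain ⟨hu, hg1, hga, hgb⟩ := hq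
      obtain ⟨hv, hk1, hka, hkb⟩ := hq'
      simp only at e
      have huv : (v⁻¹ * u) • b = b := by
        by_contra hne
        refine hk1 (hfix k hka hkb _ (hK.smul_ne (hUa (mul_mem (inv_mem hv) hu)) h.ne_ab.symm)
          hne ?_)
        have h1 : k = v⁻¹ * (u * g * u⁻¹) * v := by rw [e]; group
        rw [h1, mul_smul, mul_smul, ← mul_smul v (v⁻¹ * u), mul_inv_cancel_left, mul_smul,
          mul_smul, inv_smul_smul, hgb, mul_smul]
      obtain rfl : v = u := inv_mul_eq_one.1 (hK.free (mul_mem (inv_mem hv) hu) h.ne_ab.symm huv)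
      exact Prod.ext rfl (mul_left_cancel (mul_right_cancel e))
  have hZV : Z = V := by
    refine (Finset.eq_of_subset_of_card_le hVZ ?_).symm
    rw [Finset.card_sdiff_of_subset hZA, hA] at hbig
    have := Finset.card_le_card hZA
    rw [hA] at this
    have hd0 : 0 < d := Nat.card_pos
    obtain ⟨e, he⟩ : ∃ e, d = e + 1 := ⟨d - 1, by omega⟩
    rw [he, Nat.add_sub_cancel, mul_add, mul_one] at hbig
    rw [he, mul_add, mul_one] at this
    omega
  have hU : Cfsg.Agent.Lib.Zassenhaus.AbKernel a b U := by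
    refine ⟨hUa, fun g hga u hu => ?_, hUc, hUr⟩
    have huZ : u ∈ Z := hVZ (by simp [V, hu])
    simp only [Z, Finset.mem_filter, Finset.mem_univ, true_and] at huZ
    have : g * u * g⁻¹ ∈ Z := by
      simp only [Z, Finset.mem_filter, Finset.mem_univ, true_and]
      refine ⟨by rw [mul_smul, mul_smul, inv_smul_eq_iff.2 hga.symm, hUa hu, hga], ?_⟩
      rcases huZ.2 with rfl | hfpf
      · exact Or.inl (by group)
      · refine Or.inr fun v hv e => hfpf (g⁻¹ • v) ?_ ?_
        · exact hK.smul_ne (inv_smul_eq_iff.2 hga.symm) hv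
        · rwa [mul_smul, mul_smul, ← eq_inv_smul_iff] at e
    rw [hZV] at this
    simpa [V] using this
  have hn : Even (Nat.card Ω) := by
    rw [h.card_eq]
    exact (hp.pow).add_one
  have hSd : Nat.card ↥(stabilizer G a ⊓ stabilizer G b) = d := rfl
  have hle' : 2 * d + 2 ≤ 2 * p := by omega
  have hfinal : Nat.card Ω ≤ 2 * d + 2 := by
    rcases Nat.even_or_odd d with hde | hdo
    · have := (Cfsg.Agent.Lib.Zassenhaus.card_le_and_inverted hZ h.ne_ab hde).1
      rw [hSd] at this
      omega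
    · obtain ⟨-, hinv⟩ :=
        Cfsg.Agent.Lib.Zassenhaus.inverted_of_even_degree hZ h.ne_ab hU hn hdo
      have := Cfsg.Agent.Lib.Zassenhaus.two_mul_card_of_inverted hZ h.ne_ab hU hn hdo hinv
      rw [hSd] at this
      omega
  rw [h.card_eq] at hfinal
  nlinarith

theorem IsSetup.card_of_two {a b : Ω} {B : Set Ω} (h : IsSetup G 2 a b B) : Nat.card G = 20 := by
  classical
  have := h.faithful
  have := h.pretransitive
  have hp5 := Fact.mk Nat.prime_five
  set S := stabilizer G a ⊓ stabilizer G b with hS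
  have hG : Nat.card G = 5 * (4 * Nat.card S) := by
    rw [Cfsg.Agent.Lib.Perm.Basic.card_eq_card_mul_card_stabilizer (G := G) a, h.card_eq,
      h.card_stabilizer]
    rfl
  obtain ⟨c, hc, hca, hcB⟩ := h.exists_mem_notMem
  obtain ⟨b', hb'⟩ : ∃ b', B \ {b} = {b'} := Set.ncard_eq_one.1 (by
    rw [Set.ncard_diff_singleton_of_mem h.b_mem, h.ncard_eq])
  have hb'B : b' ∈ B \ {b} := hb'.symm ▸ Set.mem_singleton b'
  have hfb' : ∀ g ∈ S, g • b' = b' := by
    intro g hg
    have h1 : g • b' ∈ B \ {b} := by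
      refine ⟨h.smul_B hg.1 hg.2 ▸ Set.smul_mem_smul_set hb'B.1, fun e => hb'B.2 ?_⟩
      exact MulAction.injective g ((Set.mem_singleton_iff.1 e).trans hg.2.symm)
    rw [hb'] at h1
    exact h1
  -- `G_ab` moves only the two remaining points
  set C : Set Ω := ({a, b, b'} : Set Ω)ᶜ with hC
  have hC2 : C.ncard = 2 := by
    have hb'a : a ≠ b' := fun e => h.a_notMem (e ▸ hb'B.1)
    rw [hC, Set.ncard_compl, Set.ncard_insert_of_notMem (by simp [h.ne_ab, hb'a]),
      Set.ncard_pair (Ne.symm hb'B.2), h.card_eq]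
    rfl
  have hcC : c ∈ C := by
    simp only [hC, Set.mem_compl_iff, Set.mem_insert_iff, Set.mem_singleton_iff]
    rintro (e | e | e)
    · exact hca e
    · exact hcB (e ▸ h.b_mem)
    · exact hcB (e ▸ hb'B.1)
  have hS2 : Nat.card S ≤ 2 := by
    obtain ⟨d, e, hde, hCeq⟩ := Set.ncard_eq_two.1 hC2
    rw [← hC2, ← Nat.card_coe_set_eq]
    refine Nat.card_le_card_of_injective (fun g : S => (⟨(g : G) • c, ?_⟩ : C)) ?_
    · intro hmem
      simp only [Set.mem_insert_iff, Set.mem_singleton_iff] at hmem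
      rcases hmem with e | e | e
      · exact hca (MulAction.injective (g : G) (e.trans g.2.1.symm))
      · exact hcB (MulAction.injective (g : G) (e.trans g.2.2.symm) ▸ h.b_mem)
      · exact hcB (MulAction.injective (g : G) (e.trans (hfb' g g.2).symm) ▸ hb'B.1)
    · intro g g' hgg
      have hgg' : (g : G) • c = (g' : G) • c := congrArg Subtype.val hgg
      apply Subtype.ext
      refine eq_of_smul_eq_smul (α := Ω) fun v => ?_
      by_cases hv : v ∈ C
      · by_cases hvc : v = c
        · rw [hvc, hgg']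
        · have hmv : ∀ k : S, (k : G) • v ∈ C ∧ (k : G) • v ≠ (k : G) • c := by
            intro k
            refine ⟨?_, fun e => hvc (MulAction.injective (k : G) e)⟩
            intro hmem
            simp only [Set.mem_insert_iff, Set.mem_singleton_iff] at hmem
            apply hv
            simp only [Set.mem_insert_iff, Set.mem_singleton_iff]
            rcases hmem with e | e | e
            · exact Or.inl (MulAction.injective (k : G) (e.trans k.2.1.symm))
            · exact Or.inr (Or.inl (MulAction.injective (k : G) (e.trans k.2.2.symm)))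
            · exact Or.inr (Or.inr (MulAction.injective (k : G) (e.trans (hfb' k k.2).symm)))
          have hmc : (g : G) • c ∈ C := by
            intro hmem
            simp only [Set.mem_insert_iff, Set.mem_singleton_iff] at hmem
            rcases hmem with e | e | e
            · exact hca (MulAction.injective (g : G) (e.trans g.2.1.symm))
            · exact hcB (MulAction.injective (g : G) (e.trans g.2.2.symm) ▸ h.b_mem)
            · exact hcB (MulAction.injective (g : G) (e.trans (hfb' g g.2).symm) ▸ hb'B.1)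
          have h1 := hmv g
          have h2 := hmv g'
          rw [← hgg'] at h2
          rw [hCeq] at h1 h2 hmc
          simp only [Set.mem_insert_iff, Set.mem_singleton_iff] at h1 h2 hmc
          obtain ⟨h1 | h1, h1'⟩ := h1 <;> obtain ⟨h2 | h2, h2'⟩ := h2 <;>
            rcases hmc with h3 | h3 <;> simp_all
      · simp only [hC, Set.mem_compl_iff, not_not, Set.mem_insert_iff,
          Set.mem_singleton_iff] at hv
        rcases hv with rfl | rfl | rfl
        · exact g.2.1.trans g'.2.1.symm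
        · exact g.2.2.trans g'.2.2.symm
        · exact (hfb' g g.2).trans (hfb' g' g'.2).symm
  suffices hS1 : Nat.card S = 1 by rw [hG, hS1]
  by_contra hne
  have hS2' : Nat.card S = 2 := by
    have := Nat.card_pos (α := S)
    omega
  rw [hS2'] at hG
  -- the Sylow 5-subgroup is normal and regular
  let P : Sylow 5 G := default
  have h1 := card_sylow_modEq_one 5 G
  have h2 := P.card_dvd_index
  have h3 : Nat.card P = 5 := by
    rw [P.card_eq_multiplicity, hG, Nat.factorization_mul (by norm_num) (by norm_num),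
      Finsupp.add_apply, Nat.Prime.factorization_self Nat.prime_five,
      Nat.factorization_eq_zero_of_not_dvd (by norm_num)]
    norm_num
  have h4 := Subgroup.card_mul_index (P : Subgroup G)
  rw [h3, hG] at h4
  have h5 : (P : Subgroup G).index = 8 := by omega
  rw [h5] at h2
  have h6 : Nat.card (Sylow 5 G) = 1 := by
    have h7 := Nat.le_of_dvd (by norm_num) h2
    have h8 : Nat.card (Sylow 5 G) % 5 = 1 := h1
    interval_cases Nat.card (Sylow 5 G) <;> omega
  have : Subsingleton (Sylow 5 G) := (Nat.card_eq_one_iff_unique.1 h6).1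
  have hPn : (P : Subgroup G).Normal := Sylow.normal_of_subsingleton P
  obtain ⟨x, hx⟩ := exists_prime_orderOf_dvd_card' (G := (P : Subgroup G)) 5 (dvd_of_eq h3.symm)
  rw [← Subgroup.orderOf_coe] at hx
  have hxa : (x : G) • a ≠ a := by
    intro e
    have hd := Subgroup.orderOf_dvd_natCard (stabilizer G a) (mem_stabilizer_iff.2 e)
    rw [hx, h.card_stabilizer, ← hS, hS2'] at hd
    norm_num at hd
  have hx5 : (x : G) ^ 5 • a = a := by
    have h12 := pow_orderOf_eq_one (x : G)
    rw [hx] at h12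
    rw [h12, one_smul]
  have hinj := pow_val_smul_injective (x : G) hxa hx5
  have hsurj : Function.Surjective fun i : ZMod 5 => (x : G) ^ i.val • a :=
    ((Nat.bijective_iff_injective_and_card _).2 ⟨hinj, by rw [Nat.card_zmod, h.card_eq]; rfl⟩).2
  obtain ⟨g, hg, hg1⟩ : ∃ g ∈ S, g ≠ 1 := by
    have : Nontrivial S := Finite.one_lt_card_iff_nontrivial.1 (by omega)
    obtain ⟨g, hg⟩ := exists_ne (1 : S)
    exact ⟨g, g.2, fun e => hg (Subtype.ext e)⟩
  have hmem : g * (x : G) * g⁻¹ ∈ (P : Subgroup G) := hPn.conj_mem _ x.2 g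
  obtain ⟨l, hl⟩ : ∃ l : ℕ, (x : G) ^ l = g * (x : G) * g⁻¹ := by
    have hz : Subgroup.zpowers x = ⊤ :=
      zpowers_eq_top_of_prime_card h3 fun e => by simp [e] at hx
    obtain ⟨l, hl⟩ := mem_powers_iff_mem_zpowers.2
      (hz ▸ Subgroup.mem_top (⟨_, hmem⟩ : (P : Subgroup G)))
    exact ⟨l, congrArg Subtype.val hl⟩
  have hpow : ∀ n : ℕ, g • (x : G) ^ n • a = (x : G) ^ (l * n) • a := by
    intro n
    have h9 : g * (x : G) ^ n = (x : G) ^ (l * n) * g := by
      rw [← mul_inv_eq_iff_eq_mul, ← conj_pow, ← hl, pow_mul]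
    rw [← mul_smul, h9, mul_smul, show g • a = a from hg.1]
  obtain ⟨i, hi⟩ := hsurj b
  simp only at hi
  have hi0 : i ≠ 0 := fun e => h.ne_ab (by rw [← hi, e, ZMod.val_zero, pow_zero, one_smul])
  have hpz : ∀ n : ℕ, (x : G) ^ ((n : ZMod 5)).val • a = (x : G) ^ n • a := fun n => by
    have h12 := pow_mod_orderOf (x : G) n
    rw [hx] at h12
    rw [ZMod.val_natCast, h12]
  have h10 : (l : ZMod 5) * i = i := by
    refine hinj ?_
    show (x : G) ^ ((l : ZMod 5) * i).val • a = (x : G) ^ i.val • a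
    have h11 : (l : ZMod 5) * i = ((l * i.val : ℕ) : ZMod 5) := by
      rw [Nat.cast_mul, ZMod.natCast_zmod_val]
    rw [h11, hpz, ← hpow, hi]
    exact hg.2
  have hl1 : (l : ZMod 5) = 1 := mul_right_cancel₀ hi0 (h10.trans (one_mul i).symm)
  refine hg1 (eq_of_smul_eq_smul (α := Ω) fun v => ?_)
  obtain ⟨k, rfl⟩ := hsurj v
  rw [hpow, one_smul]
  show (x : G) ^ (l * k.val) • a = (x : G) ^ k.val • a
  rw [← hpz, Nat.cast_mul, hl1, one_mul, hpz]

end Cfsg.Agent.Lib.DoublyPrim
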