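import Cfsg.Agent.Lib.DoublyPrim.Blocks
import Cfsg.Agent.Lib.DoublyPrim.Circulant

/-!
# Every block contains a fixed point of the kernel's point stabiliser
-/

set_option linter.unusedSectionVars false

namespace Cfsg.Agent.Lib.DoublyPrim

open MulAction
open scoped Pointwise

variable {G Ω : Type*} [Group G] [MulAction G Ω]

theorem conv_succ' {p : ℕ} [NeZero p] (D : Finset (ZMod p)) (n : ℕ) (i j : ZMod p) :
    Circulant.conv D (n + 1) (j - i) =
      ∑ m, if j - m ∈ D then Circulant.conv D n (m - i) else 0 := by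
  classical
  rw [Circulant.conv, ← Finset.sum_filter]
  refine Finset.sum_nbij' (fun x => j - x) (fun m => j - m) ?_ ?_ ?_ ?_ ?_
  · intro x hx
    simpa using hx
  · intro m hm
    simpa using hm
  · intro x _
    simp
  · intro m _
    simp
  · intro x _
    congr 1
    ring

namespace HasKernel

variable [Finite G] [Finite Ω] {p : ℕ} {a b : Ω} {B : Set Ω} {U : Subgroup G}
  (h : HasKernel G p a b B U)
include h

variable {x : G} (hxU : x ∈ U) (hxp : x ^ p = 1) (hxb : x • b ≠ b)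
  (hxK : x ∈ blkKer G a B a) (hxB : ∀ w ∈ B, ∃ i : ZMod p, x ^ i.val • b = w)
  (hUp : ∀ u ∈ U, u ^ p • B = B)
include hxU hxp hxb hxK hxB hUp

theorem exists_fixed_of_transitive [hp : Fact p.Prime] (hp3 : 3 ≤ p)
    (htr : ∀ z ∈ B, ∀ z' ∈ B, z ≠ b → z' ≠ b → ∃ g ∈ kerStab G a B a b, g • z = z')
    {v : Ω} (hv : v ≠ a) : ∃ w ∈ blk G a B a v, w ∈ fixSet G a B a b := by
  classical
  obtain ⟨u, hu, huv⟩ := h.exists_U hv
  have hba : b ≠ a := h.setup.ne_ab.symm
  have hinj := h.pow_smul_injective hxU hxp hxb hxK hxB hba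
  have hinjv := h.pow_smul_injective hxU hxp hxb hxK hxB hv
  have hadd := h.pow_add' hxU hxp hxb hxK hxB
  -- the action of the kernel on `B` in coordinates
  have hπ : ∀ (k : blkKer G a B a) (i : ZMod p),
      ∃ j : ZMod p, x ^ j.val • b = (k : G) • x ^ i.val • b := by
    intro k i
    refine hxB _ ?_
    have h1 : (k : G) • x ^ i.val • b ∈ (k : G) • x ^ i.val • B :=
      Set.smul_mem_smul_set (Set.smul_mem_smul_set h.setup.b_mem)
    rwa [h.smul_B_of_ker (pow_mem hxK _), h.smul_B_of_ker k.2] at h1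
  choose π hπ using hπ
  have hπbij : ∀ k, Function.Bijective (π k) := fun k =>
    Finite.injective_iff_bijective.1 fun i j e => hinj (MulAction.injective (k : G) (by
      show (k : G) • x ^ i.val • b = (k : G) • x ^ j.val • b
      rw [← hπ, ← hπ, e]))
  -- conjugation by `u`
  have hconj : ∀ (n : ℕ) (k : G), k ∈ blkKer G a B a →
      (u ^ n)⁻¹ * k * u ^ n ∈ blkKer G a B a := fun n k hk => by
    simpa using h.conj_mem (h.U_fix (inv_mem (pow_mem hu n))) hk
  let c : ℕ → blkKer G a B a → blkKer G a B a := fun n k =>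
    ⟨(u ^ n)⁻¹ * (k : G) * u ^ n, hconj n k k.2⟩
  let D : Finset (ZMod p) := Finset.univ.filter fun m =>
    ∃ g ∈ kerStab G a B a b, g • v = x ^ m.val • v
  have hD : ∀ m, m ∈ D ↔ ∃ g ∈ kerStab G a B a b, g • v = x ^ m.val • v := fun m => by
    simp [D]
  -- the incidence between `B` and the block of `v`
  have hrel : ∀ i j : ZMod p, j - i ∈ D ↔ ∃ k : blkKer G a B a,
      (k : G) • b = x ^ i.val • b ∧ (k : G) • v = x ^ j.val • v := by
    intro i j
    rw [hD]
    constructor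
    · rintro ⟨g, hg, hgv⟩
      refine ⟨⟨x ^ i.val * g, mul_mem (pow_mem hxK _) hg.1⟩, ?_, ?_⟩
      · show (x ^ i.val * g) • b = _
        rw [mul_smul, show g • b = b from hg.2]
      · show (x ^ i.val * g) • v = _
        rw [mul_smul, hgv, ← mul_smul, ← hadd, add_sub_cancel]
    · rintro ⟨k, hkb, hkv⟩
      refine ⟨(x ^ i.val)⁻¹ * k, mem_kerStab.2 ⟨mul_mem (inv_mem (pow_mem hxK _)) k.2, ?_⟩, ?_⟩
      · show ((x ^ i.val)⁻¹ * (k : G)) • b = b
        rw [mul_smul, hkb, inv_smul_smul]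
      · rw [mul_smul, hkv, inv_smul_eq_iff, ← mul_smul, ← hadd, add_sub_cancel]
  have hτ : ∀ (k : blkKer G a B a) (j : ZMod p),
      (k : G) • x ^ j.val • v = x ^ (π (c 1 k) j).val • v := by
    intro k j
    have hcu : ∀ m : ℕ, x ^ m * u = u * x ^ m := fun m => h.comm _ (pow_mem hxU m) u hu
    rw [← huv, ← mul_smul (x ^ j.val) u, ← mul_smul (x ^ (π (c 1 k) j).val) u, hcu, hcu, mul_smul,
      mul_smul, hπ]
    show (k : G) • u • x ^ j.val • b = u • ((u ^ 1)⁻¹ * (k : G) * u ^ 1) • x ^ j.val • b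
    rw [pow_one, mul_smul, mul_smul, smul_inv_smul]
  have hinv : ∀ (k : blkKer G a B a) (i j : ZMod p),
      π (c 1 k) j - π k i ∈ D ↔ j - i ∈ D := by
    intro k i j
    rw [hrel, hrel]
    constructor
    · rintro ⟨g, h1, h2⟩
      refine ⟨k⁻¹ * g, ?_, ?_⟩
      · show ((k : G)⁻¹ * (g : G)) • b = _
        rw [mul_smul, h1, hπ, inv_smul_smul]
      · show ((k : G)⁻¹ * (g : G)) • v = _
        rw [mul_smul, h2, ← hτ, inv_smul_smul]
    · rintro ⟨g, h1, h2⟩
      refine ⟨k * g, ?_, ?_⟩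
      · show ((k : G) * (g : G)) • b = _
        rw [mul_smul, h1, hπ]
      · show ((k : G) * (g : G)) • v = _
        rw [mul_smul, h2, hτ]
  have hcc : ∀ n k, c 1 (c n k) = c (n + 1) k := by
    intro n k
    apply Subtype.ext
    show (u ^ 1)⁻¹ * ((u ^ n)⁻¹ * (k : G) * u ^ n) * u ^ 1 = (u ^ (n + 1))⁻¹ * (k : G) * u ^ (n + 1)
    rw [pow_one, pow_succ, mul_inv_rev]
    group
  have hN : ∀ (n : ℕ) (k : blkKer G a B a) (i j : ZMod p),
      Circulant.conv D n (π (c n k) j - π k i) = Circulant.conv D n (j - i) := by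
    intro n
    induction n with
    | zero =>
      intro k i j
      have e : c 0 k = k := Subtype.ext (by simp [c])
      rw [e]
      simp only [Circulant.conv, sub_eq_zero, (hπbij k).injective.eq_iff]
    | succ n ih =>
      intro k i j
      rw [conv_succ', conv_succ', ← Equiv.sum_comp (Equiv.ofBijective _ (hπbij (c n k)))]
      refine Finset.sum_congr rfl fun m _ => ?_
      simp only [Equiv.ofBijective_apply, ih, ← hcc n k, hinv]
  obtain ⟨e, he⟩ : ∃ e : ZMod p, x ^ e.val • b = u ^ p • b :=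
    hxB _ (by
      have h1 : u ^ p • b ∈ u ^ p • B := Set.smul_mem_smul_set h.setup.b_mem
      rwa [hUp u hu] at h1)
  have hue : u ^ p = x ^ e.val := by
    refine inv_mul_eq_one.1 (h.free (mul_mem (inv_mem (pow_mem hu p)) (pow_mem hxU _)) hba ?_)
    rw [mul_smul, he, inv_smul_smul]
  have hstab : ∀ k : blkKer G a B a, (k : G) • b = b → ∀ j,
      Circulant.conv D p (π k (j + e) - e) = Circulant.conv D p j := by
    intro k hk j
    have h0 : π k 0 = 0 := hinj (by
      show x ^ (π k 0).val • b = x ^ (0 : ZMod p).val • b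
      rw [hπ, ZMod.val_zero, pow_zero, one_smul, hk])
    have h1 : π (c p k) j = π k (j + e) - e := hinj (by
      show x ^ (π (c p k) j).val • b = x ^ (π k (j + e) - e).val • b
      refine MulAction.injective (x ^ e.val) ?_
      simp only
      rw [hπ, ← mul_smul (x ^ e.val) (x ^ (π k (j + e) - e).val), ← hadd, add_sub_cancel, hπ,
        add_comm j e, hadd, mul_smul (x ^ e.val)]
      show x ^ e.val • ((u ^ p)⁻¹ * (k : G) * u ^ p) • x ^ j.val • b = _
      rw [hue, mul_smul, mul_smul, smul_inv_smul])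
    have h2 := hN p k 0 j
    rwa [h1, h0, sub_zero, sub_zero] at h2
  have hconst : ∀ w, w ≠ -e → Circulant.conv D p w = Circulant.conv D p (1 - e) := by
    intro w hw
    have hwe : w + e ≠ 0 := fun h0 => hw (eq_neg_of_add_eq_zero_left h0)
    have hne : ∀ i : ZMod p, i ≠ 0 → x ^ i.val • b ≠ b := fun i hi heq => hi (hinj (by
      show x ^ i.val • b = x ^ (0 : ZMod p).val • b
      rw [heq, ZMod.val_zero, pow_zero, one_smul]))
    have hmem : ∀ i : ZMod p, x ^ i.val • b ∈ B := fun i => by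
      have h1 : x ^ i.val • b ∈ x ^ i.val • B := Set.smul_mem_smul_set h.setup.b_mem
      rwa [h.smul_B_of_ker (pow_mem hxK _)] at h1
    obtain ⟨g, hg, hgz⟩ := htr _ (hmem (w + e)) _ (hmem 1) (hne _ hwe) (hne 1 one_ne_zero)
    have h1 := hstab ⟨g, hg.1⟩ hg.2 w
    have h2 : π ⟨g, hg.1⟩ (w + e) = 1 := hinj (by
      show x ^ (π ⟨g, hg.1⟩ (w + e)).val • b = x ^ (1 : ZMod p).val • b
      rw [hπ]
      exact hgz)
    rw [h2] at h1
    exact h1.symm
  have hcases := Circulant.card_le_one_or_ge hp3 D (-e) _ hconst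
  have h0D : (0 : ZMod p) ∈ D :=
    (hD 0).2 ⟨1, one_mem _, by rw [one_smul, ZMod.val_zero, pow_zero, one_smul]⟩
  have hblk : ∀ g ∈ kerStab G a B a b, ∀ m : ZMod p, ∃ m' : ZMod p,
      x ^ m'.val • v = g • x ^ m.val • v := fun g hg m =>
    ⟨π (c 1 ⟨g, hg.1⟩) m, (hτ ⟨g, hg.1⟩ m).symm⟩
  rcases hcases with h1 | h1
  · refine ⟨v, h.setup.mem_blk (Ne.symm hv), fun g hg => ?_⟩
    obtain ⟨m, hm⟩ := hblk g hg 0
    rw [ZMod.val_zero, pow_zero, one_smul] at hm
    have hm' : m = 0 := Finset.card_le_one.1 h1 m ((hD m).2 ⟨g, hg, hm.symm⟩) 0 h0D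
    rw [← hm, hm', ZMod.val_zero, pow_zero, one_smul]
  · have hle : D.card ≤ p := (Finset.card_le_univ D).trans_eq (ZMod.card p)
    rcases (show D.card = p ∨ D.card + 1 = p by omega) with h2 | h2
    · exfalso
      have hDu : D = Finset.univ := Finset.eq_univ_of_card D (h2.trans (ZMod.card p).symm)
      have horb : orbit (kerStab G a B a b) v = blk G a B a v := by
        refine Set.ext fun w => ⟨?_, fun hw => ?_⟩
        · rintro ⟨g, rfl⟩
          exact h.mem_blk_smul g.2.1 hv (h.setup.mem_blk (Ne.symm hv))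
        · obtain ⟨m, rfl⟩ := h.exists_pow_of_mem hxU hxp hxb hxK hxB hv hw
          obtain ⟨g, hg, hgv⟩ := (hD m).1 (hDu ▸ Finset.mem_univ m)
          exact ⟨⟨g, hg⟩, hgv⟩
      have h3 := Subgroup.card_mul_index (stabilizer (kerStab G a B a b) v)
      rw [index_stabilizer, horb, h.setup.ncard_blk (Ne.symm hv)] at h3
      exact h.not_dvd ((Dvd.intro_left _ h3).trans
        (Subgroup.card_dvd_of_le fun g hg => ⟨hg.1.1, hg.2⟩))
    · obtain ⟨m, hm⟩ : ∃ m, Finset.univ \ D = {m} := Finset.card_eq_one.1 (by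
        rw [Finset.card_sdiff_of_subset (Finset.subset_univ D), Finset.card_univ, ZMod.card]
        omega)
      have hmD : ∀ m', m' ∉ D ↔ m' = m := fun m' => by
        rw [← Finset.mem_singleton (a := m), ← hm]
        simp
      refine ⟨x ^ m.val • v, ?_, fun g hg => ?_⟩
      · exact h.mem_blk_smul (pow_mem hxK _) hv (h.setup.mem_blk (Ne.symm hv))
      · obtain ⟨m', hm'⟩ := hblk g hg m
        rw [← hm', (hmD m').1 fun hmem => (hmD m).2 rfl ((hD m).2 ?_)]
        obtain ⟨g', hg', hgv⟩ := (hD m').1 hmem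
        exact ⟨g⁻¹ * g', mul_mem (inv_mem hg) hg', by rw [mul_smul, hgv, hm', inv_smul_smul]⟩

theorem exists_fixed_of_linear [hp : Fact p.Prime]
    (hlin : ∀ g ∈ kerStab G a B a b, ∃ l : ZMod p, g * x * g⁻¹ = x ^ l.val)
    {v : Ω} (hv : v ≠ a) : ∃ w ∈ blk G a B a v, w ∈ fixSet G a B a b := by
  classical
  have hadd := h.pow_add' hxU hxp hxb hxK hxB
  have hconjpow : ∀ g ∈ kerStab G a B a b, ∃ l : ZMod p,
      ∀ i : ZMod p, g * x ^ i.val = x ^ (l * i).val * g := by
    intro g hg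
    obtain ⟨l, hl⟩ := hlin g hg
    refine ⟨l, fun i => ?_⟩
    rw [← mul_inv_eq_iff_eq_mul, ← conj_pow, hl, ← pow_mul, ZMod.val_mul,
      ← pow_eq_pow_mod _ hxp]
  choose! lam hlam using hconjpow
  have hact : ∀ g ∈ kerStab G a B a b, ∀ i : ZMod p,
      g • x ^ i.val • b = x ^ (lam g * i).val • b := fun g hg i => by
    rw [← mul_smul, hlam g hg, mul_smul, show g • b = b from hg.2]
  have hcomm : ∀ g ∈ kerStab G a B a b, ∀ g' ∈ kerStab G a B a b, g * g' = g' * g := by
    intro g hg g' hg'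
    refine inv_mul_eq_one.1 (h.eq_one_of_fix_B hxU hxp hxb hxK hxB
      (mul_mem (inv_mem (mul_mem hg.1 hg'.1)) (mul_mem hg'.1 hg.1)) fun w hw => ?_)
    obtain ⟨i, rfl⟩ := hxB w hw
    rw [mul_smul, inv_smul_eq_iff, mul_smul, mul_smul, hact g hg, hact g' hg', hact g' hg',
      hact g hg, mul_left_comm]
  by_cases hbot : ∀ g ∈ kerStab G a B a b, g = 1
  · exact ⟨v, h.setup.mem_blk (Ne.symm hv), fun g hg => by rw [hbot g hg, one_smul]⟩
  push Not at hbot
  obtain ⟨g, hg, hg1⟩ := hbot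
  have hl1 : 1 - lam g ≠ 0 := fun e => hg1 (h.eq_one_of_fix_B hxU hxp hxb hxK hxB hg.1
    fun w hw => by
      obtain ⟨i, rfl⟩ := hxB w hw
      rw [hact g hg, ← sub_eq_zero.1 e, one_mul])
  obtain ⟨m, hm⟩ := h.exists_pow_of_mem hxU hxp hxb hxK hxB hv
    (h.mem_blk_smul hg.1 hv (h.setup.mem_blk (Ne.symm hv)))
  have hfix : ∀ i : ZMod p, g • x ^ i.val • v = x ^ (lam g * i + m).val • v := fun i => by
    rw [← mul_smul, hlam g hg, mul_smul, ← hm, ← mul_smul, ← hadd]
  set i0 : ZMod p := m / (1 - lam g) with hi0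
  have he : lam g * i0 + m = i0 := by
    rw [hi0]
    field_simp
    ring
  refine ⟨x ^ i0.val • v, h.mem_blk_smul (pow_mem hxK _) hv (h.setup.mem_blk (Ne.symm hv)),
    fun g' hg' => ?_⟩
  have hfw : g • x ^ i0.val • v = x ^ i0.val • v := by rw [hfix, he]
  obtain ⟨i, hi⟩ := h.exists_pow_of_mem hxU hxp hxb hxK hxB hv
    (h.mem_blk_smul hg'.1 hv
      (h.mem_blk_smul (pow_mem hxK i0.val) hv (h.setup.mem_blk (Ne.symm hv))))
  have h1 : g • x ^ i.val • v = x ^ i.val • v := by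
    rw [hi, ← mul_smul, hcomm g hg g' hg', mul_smul, hfw]
  rw [hfix] at h1
  have h2 : lam g * i + m = i := h.pow_smul_injective hxU hxp hxb hxK hxB hv h1
  have h3 : i = i0 := by
    rw [hi0, eq_div_iff hl1]
    linear_combination -h2
  rw [← hi, h3]

/-- Every block contains a fixed point. -/
theorem exists_fixed [hp : Fact p.Prime] (hp3 : 3 ≤ p) {v : Ω} (hv : v ≠ a) :
    ∃ w ∈ blk G a B a v, w ∈ fixSet G a B a b :=
  (h.kerStab_transitive_or_linear hxU hxp hxb hxK hxB).elim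
    (fun htr => h.exists_fixed_of_transitive hxU hxp hxb hxK hxB hUp hp3 htr hv)
    (fun hlin => h.exists_fixed_of_linear hxU hxp hxb hxK hxB hUp hlin hv)

end HasKernel

end Cfsg.Agent.Lib.DoublyPrim
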