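import Cfsg.Agent.Lib.DoublyPrim.Fixed

/-!
# Degree `p² + 1`, `p` odd: the imprimitive case is a Zassenhaus group with a small pair stabiliser
-/

set_option linter.unusedSectionVars false

namespace Cfsg.Agent.Lib.DoublyPrim

open MulAction
open scoped Pointwise

variable {G Ω : Type*} [Group G] [MulAction G Ω]

namespace IsSetup

variable [Finite G] [Finite Ω] {p : ℕ} {a b : Ω} {B : Set Ω} (h : IsSetup G p a b B)
include h

theorem smul_blkKer_mem {g : G} {x : Ω} {k : G} (hk : k ∈ blkKer G a B x) :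
    g * k * g⁻¹ ∈ blkKer G a B (g • x) := by
  refine ⟨by rw [mul_smul, mul_smul, inv_smul_smul, hk.1], fun v hv => ?_⟩
  have hne : g⁻¹ • v ≠ x := fun e => hv (by rw [← e, smul_inv_smul])
  have e : blk G a B (g • x) v = g • blk G a B x (g⁻¹ • v) := by
    rw [h.smul_blk g (Ne.symm hne), smul_inv_smul]
  rw [e, mul_smul, mul_smul, inv_smul_smul, hk.2 _ hne]

theorem conj_kerStab {g : G} {x y : Ω} {k : G} (hk : k ∈ kerStab G a B x y) :
    g * k * g⁻¹ ∈ kerStab G a B (g • x) (g • y) :=
  mem_kerStab.2 ⟨h.smul_blkKer_mem hk.1, by rw [mul_smul, mul_smul, inv_smul_smul]; rw [hk.2]⟩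

theorem smul_fixSet (g : G) (x y : Ω) :
    g • fixSet G a B x y = fixSet G a B (g • x) (g • y) := by
  refine Set.ext fun v => ?_
  rw [Set.mem_smul_set_iff_inv_smul_mem]
  constructor
  · intro hv k hk
    have h1 := h.conj_kerStab (g := g⁻¹) hk
    rw [inv_smul_smul, inv_smul_smul, inv_inv] at h1
    have h2 := hv _ h1
    rwa [mul_smul, mul_smul, smul_inv_smul, smul_left_cancel_iff] at h2
  · intro hv k hk
    have h2 := hv _ (h.conj_kerStab (g := g) hk)
    rwa [mul_smul, mul_smul, ← eq_inv_smul_iff] at h2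

/-- A swap of `a` and `b` maps `blk b a` to `B`. -/
theorem exists_swap : ∃ t : G, t • a = b ∧ t • b = a := h.exists_map h.ne_ab.symm

theorem card_stab_le {β : Type*} [Finite β] (f : Ω → β) (j : ↥(stabilizer G a ⊓ stabilizer G b) → Ω)
    (hinj : Function.Injective fun s => f (j s)) {T : Set β} (hT : ∀ s, f (j s) ∈ T) :
    Nat.card ↥(stabilizer G a ⊓ stabilizer G b) ≤ T.ncard := by
  rw [← Nat.card_coe_set_eq]
  exact Nat.card_le_card_of_injective (fun s => (⟨f (j s), hT s⟩ : T))
    fun s s' e => hinj (congrArg Subtype.val e)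

end IsSetup

namespace HasKernel

variable [Finite G] [Finite Ω] {p : ℕ} {a b : Ω} {B : Set Ω} {U : Subgroup G}
  (h : HasKernel G p a b B U)
include h

theorem blk_mem_orbit {v : Ω} (hv : v ≠ a) : blk G a B a v ∈ orbit (stabilizer G a) B := by
  obtain ⟨u, hu, rfl⟩ := h.exists_U hv
  exact ⟨⟨u, h.le hu⟩, (h.setup.blk_eq_smul (h.U_fix hu) rfl).symm⟩

theorem exists_blk_of_mem_orbit {C : Set Ω} (hC : C ∈ orbit (stabilizer G a) B) :
    ∃ v, v ≠ a ∧ blk G a B a v = C := by
  obtain ⟨g, rfl⟩ := hC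
  exact ⟨(g : G) • b, h.smul_ne g.2 h.setup.ne_ab.symm, h.setup.blk_eq_smul g.2 rfl⟩

theorem ncard_orbit_B : (orbit (stabilizer G a) B).ncard = p := by
  classical
  have := Fintype.ofFinite Ω
  have e : orbit (stabilizer G a) B =
      ↑((Finset.univ.erase a).image fun v => blk G a B a v) := by
    refine Set.ext fun C => ⟨fun hC => ?_, fun hC => ?_⟩
    · obtain ⟨v, hv, rfl⟩ := h.exists_blk_of_mem_orbit hC
      exact Finset.mem_coe.2 (Finset.mem_image.2 ⟨v, by simp [hv], rfl⟩)
    · obtain ⟨v, hv, rfl⟩ := Finset.mem_image.1 (Finset.mem_coe.1 hC)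
      exact h.blk_mem_orbit (Finset.ne_of_mem_erase hv)
  rw [e, Set.ncard_coe_finset]
  have hsum := Finset.card_eq_sum_card_image (fun v => blk G a B a v) (Finset.univ.erase a)
  have hfib : ∀ C ∈ (Finset.univ.erase a).image (fun v => blk G a B a v),
      ((Finset.univ.erase a).filter fun v => blk G a B a v = C).card = p := by
    intro C hC
    obtain ⟨v, hv, rfl⟩ := Finset.mem_image.1 hC
    have hva := Finset.ne_of_mem_erase hv
    rw [← h.setup.ncard_blk (Ne.symm hva), Set.ncard_eq_toFinset_card']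
    congr 1
    ext w
    simp only [Finset.mem_filter, Finset.mem_erase, Finset.mem_univ, and_true, Set.mem_toFinset]
    refine ⟨fun hw => hw.2 ▸ h.setup.mem_blk (Ne.symm hw.1), fun hw => ?_⟩
    exact ⟨fun e => h.setup.center_notMem a v (e ▸ hw), h.setup.blk_eq_of_mem hw⟩
  rw [Finset.sum_congr rfl hfib, Finset.sum_const, smul_eq_mul, Finset.card_erase_of_mem
    (Finset.mem_univ a), Finset.card_univ, ← Nat.card_eq_fintype_card, h.setup.card_eq,
    Nat.add_sub_cancel, pow_two] at hsum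
  exact (Nat.eq_of_mul_eq_mul_right h.setup.prime.pos hsum).symm

section Cycle

variable {x : G} (hxU : x ∈ U) (hxp : x ^ p = 1) (hxb : x • b ≠ b)
  (hxK : x ∈ blkKer G a B a) (hxB : ∀ w ∈ B, ∃ i : ZMod p, x ^ i.val • b = w)
  (hUp : ∀ u ∈ U, u ^ p • B = B)
include hxU hxp hxb hxK hxB hUp

/-- Elements of `G_ab` permuting the other blocks: semiregular modulo the kernel, or the points of
`blk b a` other than `a` form a transversal of them. -/
theorem semiregular_or_transversal [hp : Fact p.Prime] :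
    (∀ g : G, g • a = a → g • b = b → ∀ v, v ≠ a → v ∉ B →
      g • blk G a B a v = blk G a B a v → g ∈ blkKer G a B a) ∨
    ((∀ c ∈ blk G a B b a, c ≠ a → c ∉ B) ∧
      (∀ v, v ≠ a → v ∉ B → ∃ c ∈ blk G a B b a, c ≠ a ∧ blk G a B a c = blk G a B a v) ∧
      ∀ c ∈ blk G a B b a, c ≠ a → ∀ c' ∈ blk G a B b a, c' ≠ a →
        blk G a B a c = blk G a B a c' → c = c') := by
  classical
  have hba : b ≠ a := h.setup.ne_ab.symm
  obtain ⟨c0, hc0, hc0a, hc0B⟩ := h.setup.exists_mem_notMem
  obtain ⟨u, hu, huc⟩ := h.exists_U hc0a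
  have huB : u • B ≠ B := fun e => hc0B (by
    rw [← e, ← huc]
    exact Set.smul_mem_smul_set h.setup.b_mem)
  have hblkB : ∀ v, v ≠ a → v ∉ B → blk G a B a v ≠ B := fun v hv hvB e =>
    hvB (e ▸ h.setup.mem_blk (Ne.symm hv))
  have key := transitive_or_semiregular (Γ := stabilizer G a) (p := p) ⟨u, h.le hu⟩ B
    h.ncard_orbit_B huB (hUp u hu)
  rcases key with htr | hsr
  · refine Or.inr ?_
    set T := blk G a B b a \ {a} with hT
    have hsub : orbit (stabilizer G a) B \ {B} ⊆ (fun c => blk G a B a c) '' T := by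
      rintro C ⟨hC, hCB⟩
      obtain ⟨g, hg1, hg2⟩ := htr _ (h.blk_mem_orbit hc0a) C hC (hblkB c0 hc0a hc0B) hCB
      -- move `g` into `G_ab`
      have hgB : (g : G) • B = B := hg1
      have hgb : (g : G) • b ∈ B := by
        have h1 : (g : G) • b ∈ (g : G) • B := Set.smul_mem_smul_set h.setup.b_mem
        rwa [hgB] at h1
      obtain ⟨i, hi⟩ := hxB _ hgb
      set g' := (x ^ i.val)⁻¹ * (g : G) with hg'
      have hg'a : g' • a = a := by
        rw [hg', mul_smul, g.2, inv_smul_eq_iff, h.U_fix (pow_mem hxU _)]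
      have hg'b : g' • b = b := by rw [hg', mul_smul, ← hi, inv_smul_smul]
      refine ⟨g' • c0, ⟨?_, fun e => hc0a ?_⟩, ?_⟩
      · have h1 : g' • c0 ∈ g' • blk G a B b a := Set.smul_mem_smul_set hc0
        rwa [h.setup.smul_blk g' hba, hg'a, hg'b] at h1
      · exact MulAction.injective g' ((Set.mem_singleton_iff.1 e).trans hg'a.symm)
      · show blk G a B a (g' • c0) = C
        have h1 : (g : G) • blk G a B a c0 = C := hg2
        rw [← h.setup.smul_blk_of_fix hg'a hc0a, hg', mul_smul, h1]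
        obtain ⟨v, hv, rfl⟩ := h.exists_blk_of_mem_orbit hC
        exact (inv_mem (pow_mem hxK i.val)).2 v hv
    have hTcard : T.ncard = p - 1 := by
      rw [hT, Set.ncard_diff_singleton_of_mem (h.setup.mem_blk hba), h.setup.ncard_blk hba]
    have himg : ((fun c => blk G a B a c) '' T) = orbit (stabilizer G a) B \ {B} := by
      refine (Set.eq_of_subset_of_ncard_le hsub ?_ (Set.toFinite _)).symm
      refine (Set.ncard_image_le (Set.toFinite T)).trans ?_
      rw [Set.ncard_diff_singleton_of_mem (mem_orbit_self B), h.ncard_orbit_B, hTcard]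
    have hinj : Set.InjOn (fun c => blk G a B a c) T :=
      Set.injOn_of_ncard_image_eq (by
        rw [himg, Set.ncard_diff_singleton_of_mem (mem_orbit_self B), h.ncard_orbit_B, hTcard])
        (Set.toFinite T)
    refine ⟨fun c hc hca hcB => ?_, fun v hv hvB => ?_, fun c hc hca c' hc' hca' e => ?_⟩
    · have h1 : blk G a B a c ∈ orbit (stabilizer G a) B \ {B} := himg ▸ ⟨c, ⟨hc, hca⟩, rfl⟩
      refine h1.2 (?_ : blk G a B a c = B)
      rw [h.setup.blk_eq (one_smul G a) (by rw [one_smul]; exact hcB), one_smul]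
    · obtain ⟨c, ⟨hc, hca⟩, e⟩ : blk G a B a v ∈ (fun c => blk G a B a c) '' T :=
        hsub ⟨h.blk_mem_orbit hv, hblkB v hv hvB⟩
      exact ⟨c, hc, hca, e⟩
    · exact hinj ⟨hc, hca⟩ ⟨hc', hca'⟩ e
  · refine Or.inl fun g hga hgb v hv hvB hfix => ⟨hga, fun w hw => ?_⟩
    exact hsr ⟨g, hga⟩ (h.setup.smul_B hga hgb) _ (h.blk_mem_orbit hv) (hblkB v hv hvB) hfix _
      (h.blk_mem_orbit hw)

/-- `kerStab a b` is trivial. -/
theorem kerStab_eq_bot [hp : Fact p.Prime] (hp3 : 3 ≤ p) : kerStab G a B a b = ⊥ := by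
  classical
  by_contra hne
  have hba : b ≠ a := h.setup.ne_ab.symm
  have hla : ∀ y, a ∈ fixSet G a B a y := fun y g hg => hg.1.1
  -- the size of `fixSet a b`
  have hcard : (fixSet G a B a b).ncard = p + 1 := by
    have h1 : (fun v => blk G a B a v) '' (fixSet G a B a b \ {a}) =
        orbit (stabilizer G a) B := by
      refine Set.Subset.antisymm ?_ fun C hC => ?_
      · rintro _ ⟨v, ⟨-, hv⟩, rfl⟩
        exact h.blk_mem_orbit hv
      · obtain ⟨v, hv, rfl⟩ := h.exists_blk_of_mem_orbit hC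
        obtain ⟨w, hw, hwf⟩ := h.exists_fixed hxU hxp hxb hxK hxB hUp hp3 hv
        exact ⟨w, ⟨hwf, fun e => h.setup.center_notMem a v (Set.mem_singleton_iff.1 e ▸ hw)⟩,
          h.setup.blk_eq_of_mem hw⟩
    have hinj : Set.InjOn (fun v => blk G a B a v) (fixSet G a B a b \ {a}) := by
      rintro v ⟨hv, hva⟩ w ⟨hw, hwa⟩ e
      refine (h.fix_unique hxU hxp hxb hxK hxB hne hva hv ?_ hw).symm
      simp only at e
      rw [e]
      exact h.setup.mem_blk (Ne.symm hwa)
    have h2 := Set.ncard_image_of_injOn hinj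
    rw [h1, h.ncard_orbit_B] at h2
    rw [h2, Set.ncard_diff_singleton_add_one (hla b)]
  -- the lines
  have hl : ∀ y z : Ω, y ≠ z → y ∈ fixSet G a B y z := fun y z _ g hg => hg.1.1
  have hr : ∀ y z : Ω, y ≠ z → z ∈ fixSet G a B y z := fun y z _ g hg => hg.2
  have hcard' : ∀ y z : Ω, y ≠ z → (fixSet G a B y z).ncard = p + 1 := by
    intro y z hyz
    obtain ⟨g, rfl, rfl⟩ := h.setup.exists_map hyz
    rw [← h.setup.smul_fixSet, Set.ncard_smul_set, hcard]
  have hsame : ∀ y z w : Ω, y ≠ z → w ∈ fixSet G a B y z → w ≠ y →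
      fixSet G a B y w = fixSet G a B y z := by
    intro y z w hyz hw hwy
    obtain ⟨g, rfl, rfl⟩ := h.setup.exists_map hyz
    rw [← h.setup.smul_fixSet] at hw
    obtain ⟨w', hw', rfl⟩ := hw
    have hw'a : w' ≠ a := fun e => hwy (by rw [e])
    show fixSet G a B (g • a) (g • w') = fixSet G a B (g • a) (g • b)
    rw [← h.setup.smul_fixSet, ← h.setup.smul_fixSet, fixSet, fixSet,
      h.kerStab_eq_of_fix hxU hxp hxb hxK hxB hba hw'a hw']
  have hnosymm : fixSet G a B a b ≠ fixSet G a B b a := fun e => by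
    refine h.setup.no_symmetric (fixSet G a B) hl hr hcard' hsame fun y z hyz => ?_
    obtain ⟨g, rfl, rfl⟩ := h.setup.exists_map hyz
    rw [← h.setup.smul_fixSet, ← h.setup.smul_fixSet, e]
  obtain ⟨t, hta, htb⟩ := h.setup.exists_swap
  -- `fixSet a b` is `b` with its block
  have hTprop : fixSet G a B a b = insert b (blk G a B b a) := by
    rcases h.semiregular_or_transversal hxU hxp hxb hxK hxB hUp with hsemi | ⟨hnB, -, hinjc⟩
    · obtain ⟨j, hj, hjn⟩ : ∃ j ∈ kerStab G a B b a, j ∉ kerStab G a B a b := by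
        by_contra! hle
        refine hnosymm (Set.eq_of_subset_of_ncard_le (fun v hv g hg => hv g (hle g hg)) ?_
          (Set.toFinite _))
        rw [hcard, hcard' b a hba]
      have hja : j • a = a := hj.2
      have hjb : j • b = b := hj.1.1
      have hsub : fixSet G a B b a ⊆ insert a B := by
        intro v hv
        by_contra hvn
        simp only [Set.mem_insert_iff, not_or] at hvn
        refine hjn (mem_kerStab.2 ⟨hsemi j hja hjb v hvn.1 hvn.2 ?_, hjb⟩)
        rw [h.setup.smul_blk_of_fix hja hvn.1, hv j hj]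
      have heq : fixSet G a B b a = insert a B := Set.eq_of_subset_of_ncard_le hsub
        (by rw [Set.ncard_insert_of_notMem h.setup.a_notMem, h.setup.ncard_eq, hcard' b a hba])
        (Set.toFinite _)
      have h1 : t • fixSet G a B b a = t • insert a B := by rw [heq]
      rw [h.setup.smul_fixSet, hta, htb, Set.smul_set_insert, hta] at h1
      rw [h1, ← h.setup.blk_self, h.setup.smul_blk t h.setup.ne_ab, hta, htb, h.setup.blk_self]
    · refine (Set.eq_of_subset_of_ncard_le ?_ ?_ (Set.toFinite _)).symm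
      · rintro v (rfl | hv)
        · exact hr a v h.setup.ne_ab
        by_cases hva : v = a
        · exact hva ▸ hla b
        intro g hg
        have hga : g • a = a := hg.1.1
        have h1 : g • v ∈ g • blk G a B b a := Set.smul_mem_smul_set hv
        rw [h.setup.smul_blk g hba, hga, show g • b = b from hg.2] at h1
        refine hinjc _ h1 (h.smul_ne hga hva) v hv hva ?_
        rw [← h.setup.smul_blk_of_fix hga hva, hg.1.2 v hva]
      · rw [hcard, Set.ncard_insert_of_notMem (h.setup.center_notMem b a), h.setup.ncard_blk hba]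
  have hTall : ∀ y z : Ω, y ≠ z → fixSet G a B y z = insert z (blk G a B z y) := by
    intro y z hyz
    obtain ⟨g, rfl, rfl⟩ := h.setup.exists_map hyz
    rw [← h.setup.smul_fixSet, hTprop, Set.smul_set_insert, h.setup.smul_blk g hba]
  obtain ⟨c, hc, hca, hcB⟩ := h.setup.exists_mem_notMem
  have hcF : c ∈ fixSet G a B a b := hTprop ▸ Set.mem_insert_of_mem b hc
  have hcb : c ≠ b := fun e => hcB (e ▸ h.setup.b_mem)
  have e1 : fixSet G a B a c = fixSet G a B a b := hsame a b c h.setup.ne_ab hcF hca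
  have hb : b ∈ blk G a B c a := by
    have := hr a b h.setup.ne_ab
    rw [← e1, hTall a c (Ne.symm hca)] at this
    exact Set.mem_of_mem_insert_of_ne this (Ne.symm hcb)
  have e2 : fixSet G a B b c = fixSet G a B a b := by
    rw [hTall b c (Ne.symm hcb), h.setup.blk_eq_of_mem hb, ← hTall a c (Ne.symm hca), e1]
  have e3 : fixSet G a B b a = fixSet G a B b c :=
    hsame b c a (Ne.symm hcb) (e2 ▸ hla b) h.setup.ne_ab
  exact hnosymm (e2.symm.trans e3.symm)

/-- Non-trivial elements of `G_ab` have two fixed points, and `|G_ab| ≤ p - 1`. -/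
theorem pair_facts [hp : Fact p.Prime] (hp3 : 3 ≤ p) :
    (∀ g : G, g • a = a → g • b = b → ∀ v, v ≠ a → v ≠ b → g • v = v → g = 1) ∧
      Nat.card ↥(stabilizer G a ⊓ stabilizer G b) ≤ p - 1 := by
  classical
  have hba : b ≠ a := h.setup.ne_ab.symm
  have hbot := h.kerStab_eq_bot hxU hxp hxb hxK hxB hUp hp3
  have hinj := h.pow_smul_injective hxU hxp hxb hxK hxB hba
  -- on `B`: linear
  have hB : ∀ g : G, g • a = a → g • b = b → ∀ v ∈ B, v ≠ b → g • v = v →
      ∀ w ∈ B, g • w = w := by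
    intro g hga hgb v hv hvb hgv w hw
    have hk : g * x * g⁻¹ ∈ blkKer G a B a := h.conj_mem hga hxK
    obtain ⟨l, hl⟩ := hxB _ (by
      have h1 : (g * x * g⁻¹) • b ∈ (g * x * g⁻¹) • B := Set.smul_mem_smul_set h.setup.b_mem
      rwa [h.smul_B_of_ker hk] at h1)
    have h1 : (x ^ l.val)⁻¹ * (g * x * g⁻¹) ∈ kerStab G a B a b :=
      mem_kerStab.2 ⟨mul_mem (inv_mem (pow_mem hxK _)) hk, by rw [mul_smul, ← hl, inv_smul_smul]⟩
    rw [hbot, Subgroup.mem_bot, inv_mul_eq_one] at h1
    have hact : ∀ i : ZMod p, g • x ^ i.val • b = x ^ (l * i).val • b := by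
      intro i
      have h2 : g * x ^ i.val = x ^ (l * i).val * g := by
        rw [← mul_inv_eq_iff_eq_mul, ← conj_pow, ← h1, ← pow_mul, ZMod.val_mul,
          ← pow_eq_pow_mod _ hxp]
      rw [← mul_smul, h2, mul_smul, hgb]
    obtain ⟨i, rfl⟩ := hxB v hv
    have hi : i ≠ 0 := fun e => hvb (by rw [e, ZMod.val_zero, pow_zero, one_smul])
    rw [hact] at hgv
    have hl1 : l = 1 := mul_right_cancel₀ hi ((hinj hgv).trans (one_mul i).symm)
    obtain ⟨k, rfl⟩ := hxB w hw
    rw [hact, hl1, one_mul]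
  obtain ⟨t, hta, htb⟩ := h.setup.exists_swap
  have hU2 : t • blk G a B b a = B := by
    rw [h.setup.smul_blk t hba, hta, htb, h.setup.blk_self]
  have hKone : ∀ g : G, g • a = a → g • b = b → g ∈ blkKer G a B a → g = 1 :=
    fun g _ hgb hg => Subgroup.mem_bot.1 (hbot ▸ mem_kerStab.2 ⟨hg, hgb⟩)
  -- semiregular on the other blocks
  have hsr : ∀ g : G, g • a = a → g • b = b → ∀ v, v ≠ a → v ∉ B →
      g • blk G a B a v = blk G a B a v → g = 1 := by
    intro g hga hgb v hv hvB hfix
    rcases h.semiregular_or_transversal hxU hxp hxb hxK hxB hUp with hsemi | ⟨hnB, hex, hinjc⟩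
    · exact hKone g hga hgb (hsemi g hga hgb v hv hvB hfix)
    have hmove : ∀ c ∈ blk G a B b a, g • c ∈ blk G a B b a := fun c hc => by
      have h1 : g • c ∈ g • blk G a B b a := Set.smul_mem_smul_set hc
      rwa [h.setup.smul_blk g hba, hga, hgb] at h1
    obtain ⟨c, hc, hca, hcv⟩ := hex v hv hvB
    have hgc : g • c = c := hinjc _ (hmove c hc) (h.smul_ne hga hca) c hc hca (by
      rw [← h.setup.smul_blk_of_fix hga hca, hcv, hfix])
    have htg : ∀ w ∈ B, (t * g * t⁻¹) • w = w := by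
      refine hB _ ?_ ?_ (t • c) (hU2 ▸ Set.smul_mem_smul_set hc) ?_ ?_
      · rw [mul_smul, mul_smul, show t⁻¹ • a = b by rw [inv_smul_eq_iff, htb], hgb, htb]
      · rw [mul_smul, mul_smul, show t⁻¹ • b = a by rw [inv_smul_eq_iff, hta], hga, hta]
      · exact fun e => hca (MulAction.injective t (e.trans hta.symm))
      · rw [mul_smul, mul_smul, inv_smul_smul, hgc]
    have hall : ∀ d ∈ blk G a B b a, g • d = d := fun d hd => by
      have h1 := htg (t • d) (hU2 ▸ Set.smul_mem_smul_set hd)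
      rwa [mul_smul, mul_smul, inv_smul_smul, smul_left_cancel_iff] at h1
    refine hKone g hga hgb ⟨hga, fun w hw => ?_⟩
    by_cases hwB : w ∈ B
    · rw [h.setup.blk_eq (one_smul G a) (by rwa [one_smul]), one_smul, h.setup.smul_B hga hgb]
    · obtain ⟨d, hd, hda, hdw⟩ := hex w hw hwB
      rw [← hdw, h.setup.smul_blk_of_fix hga hda, hall d hd]
  refine ⟨fun g hga hgb v hva hvb hgv => ?_, ?_⟩
  · by_cases hvB : v ∈ B
    · have hfixB := hB g hga hgb v hvB hvb hgv
      obtain ⟨c, hc, hca, hcB⟩ := h.setup.exists_mem_notMem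
      have hga' : (t⁻¹ * g * t) • a = a := by
        rw [mul_smul, mul_smul, hta, hgb, inv_smul_eq_iff, hta]
      have hgb' : (t⁻¹ * g * t) • b = b := by
        rw [mul_smul, mul_smul, htb, hga, inv_smul_eq_iff, htb]
      have h1 : t⁻¹ * g * t = 1 := by
        refine hsr _ hga' hgb' c hca hcB ?_
        rw [h.setup.smul_blk_of_fix hga' hca, mul_smul, mul_smul,
          hfixB _ (hU2 ▸ Set.smul_mem_smul_set hc), inv_smul_smul]
      rwa [mul_assoc, inv_mul_eq_one, eq_comm, mul_eq_right] at h1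
    · exact hsr g hga hgb v hva hvB (by rw [h.setup.smul_blk_of_fix hga hva, hgv])
  · obtain ⟨c, hc, hca, hcB⟩ := h.setup.exists_mem_notMem
    have h1 : (orbit (stabilizer G a) B \ {B}).ncard = p - 1 := by
      rw [Set.ncard_diff_singleton_of_mem (mem_orbit_self B), h.ncard_orbit_B]
    rw [← h1]
    refine h.setup.card_stab_le (fun v => blk G a B a v) (fun s => (s : G) • c) ?_ ?_
    · intro s s' e
      simp only at e
      rw [← h.setup.smul_blk_of_fix s.2.1 hca, ← h.setup.smul_blk_of_fix s'.2.1 hca] at e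
      have h2 : (s' : G)⁻¹ * s = 1 := by
        refine hsr _ ?_ ?_ c hca hcB ?_
        · rw [mul_smul, s.2.1, inv_smul_eq_iff, s'.2.1]
        · rw [mul_smul, s.2.2, inv_smul_eq_iff, s'.2.2]
        · rw [mul_smul, e, inv_smul_smul]
      exact Subtype.ext (inv_mul_eq_one.1 h2).symm
    · intro s
      refine ⟨h.blk_mem_orbit (h.smul_ne s.2.1 hca), fun e => hcB ?_⟩
      rw [Set.mem_singleton_iff, ← h.setup.smul_blk_of_fix s.2.1 hca, smul_eq_iff_eq_inv_smul,
        h.setup.smul_B (inv_smul_eq_iff.2 s.2.1.symm) (inv_smul_eq_iff.2 s.2.2.symm)] at e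
      exact e ▸ h.setup.mem_blk (Ne.symm hca)

end Cycle

end HasKernel

end Cfsg.Agent.Lib.DoublyPrim
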