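import Cfsg.Agent.Lib.Perm.Basic
import Mathlib.GroupTheory.GroupAction.Primitive
import Mathlib.GroupTheory.GroupAction.MultipleTransitivity
import Mathlib.GroupTheory.Sylow
import Mathlib.Data.ZMod.Basic

/-!
# A block system of a point stabiliser of a doubly transitive group of degree `p² + 1`

* `blk` : the blocks transported to every point.
* `no_symmetric` : there is no symmetrical system of lines of size `p + 1`.
* `exists_kernel` : an abelian subgroup of order `p²` of `G_a` regular on the other points.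
-/

set_option linter.unusedSectionVars false

namespace Cfsg.Agent.Lib.DoublyPrim

open MulAction
open scoped Pointwise

variable {G Ω : Type*} [Group G] [MulAction G Ω]

variable (G) in
/-- A block of size `p` at `b` for the stabiliser of `a`. -/
structure IsSetup (p : ℕ) (a b : Ω) (B : Set Ω) : Prop where
  prime : p.Prime
  faithful : FaithfulSMul G Ω
  card_eq : Nat.card Ω = p ^ 2 + 1
  two : IsMultiplyPretransitive G Ω 2
  b_mem : b ∈ B
  a_notMem : a ∉ B
  ncard_eq : B.ncard = p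
  block : ∀ g : G, g • a = a → ∀ v ∈ B, g • v ∈ B → g • B = B

variable (G) in
/-- The block through `y` of the stabiliser of `x`. -/
def blk (a : Ω) (B : Set Ω) (x y : Ω) : Set Ω :=
  {v | ∃ g : G, g • a = x ∧ y ∈ g • B ∧ v ∈ g • B}

/-- A `p`-group fixes an invariant set with fewer than `p` points pointwise. -/
theorem fix_of_small {Q : Type*} [Group Q] [Finite Q] {β : Type*} [MulAction Q β] {p : ℕ}
    [hp : Fact p.Prime] (hQ : IsPGroup p Q) {T : Set β} (hTf : T.Finite) (hTp : T.ncard < p)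
    (hT : ∀ q : Q, ∀ v ∈ T, q • v ∈ T) {v : β} (hv : v ∈ T) (q : Q) : q • v = v := by
  have hsub : orbit Q v ⊆ T := by
    rintro _ ⟨q, rfl⟩
    exact hT q v hv
  have := (hTf.subset hsub).to_subtype
  obtain ⟨n, hn⟩ := hQ.card_orbit v
  have h1 := Set.ncard_le_ncard hsub hTf
  rw [← Nat.card_coe_set_eq, hn] at h1
  rcases Nat.eq_zero_or_pos n with h0 | h0
  · rw [h0, pow_zero, Nat.card_coe_set_eq, Set.ncard_eq_one] at hn
    obtain ⟨w, hw⟩ := hn
    have h2 : q • v ∈ orbit Q v := mem_orbit v q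
    have h3 : v ∈ orbit Q v := mem_orbit_self v
    rw [hw, Set.mem_singleton_iff] at h2 h3
    rw [h2, h3]
  · have := Nat.le_self_pow h0.ne' p
    omega

namespace IsSetup

variable [Finite G] [Finite Ω] {p : ℕ} {a b : Ω} {B : Set Ω} (h : IsSetup G p a b B)
include h

local notation "blk'" => blk G a B

theorem ne_ab : a ≠ b := fun e => h.a_notMem (e ▸ h.b_mem)

theorem two_le : 2 ≤ p := h.prime.two_le

theorem pretransitive : IsPretransitive G Ω :=
  letI := h.two
  isPretransitive_of_is_two_pretransitive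

theorem exists_map {x y : Ω} (hxy : x ≠ y) : ∃ g : G, g • a = x ∧ g • b = y :=
  is_two_pretransitive_iff.mp h.two h.ne_ab hxy

theorem blk_eq {g : G} {x y : Ω} (hg : g • a = x) (hy : y ∈ g • B) : blk' x y = g • B := by
  refine Set.ext fun v => ⟨?_, fun hv => ⟨g, hg, hy, hv⟩⟩
  rintro ⟨g', hg', hy', hv⟩
  obtain ⟨w, hw, rfl⟩ := hy
  obtain ⟨w', hw', e⟩ := hy'
  have h1 : (g⁻¹ * g') • a = a := by rw [mul_smul, hg', inv_smul_eq_iff, hg]
  have h2 := h.block _ h1 w' hw' (by
    simp only at e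
    rw [mul_smul, e, inv_smul_smul]
    exact hw)
  rw [mul_smul, inv_smul_eq_iff] at h2
  rwa [h2] at hv

theorem blk_self : blk' a b = B := by
  rw [h.blk_eq (one_smul G a) (by rw [one_smul]; exact h.b_mem), one_smul]

theorem blk_eq_smul {g : G} {x y : Ω} (hg : g • a = x) (hy : g • b = y) :
    blk' x y = g • B :=
  h.blk_eq hg (hy ▸ Set.smul_mem_smul_set h.b_mem)

theorem mem_blk {x y : Ω} (hxy : x ≠ y) : y ∈ blk' x y := by
  obtain ⟨g, hg, hy⟩ := h.exists_map hxy
  rw [h.blk_eq_smul hg hy, ← hy]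
  exact Set.smul_mem_smul_set h.b_mem

theorem center_notMem (x y : Ω) : x ∉ blk' x y := by
  rintro ⟨g, hg, -, hx⟩
  rw [← hg, Set.smul_mem_smul_set_iff] at hx
  exact h.a_notMem hx

theorem blk_eq_of_mem {x y z : Ω} (hz : z ∈ blk' x y) : blk' x z = blk' x y := by
  obtain ⟨g, hg, hy, hz⟩ := hz
  rw [h.blk_eq hg hy, h.blk_eq hg hz]

theorem ncard_blk {x y : Ω} (hxy : x ≠ y) : (blk' x y).ncard = p := by
  obtain ⟨g, hg, hy⟩ := h.exists_map hxy
  rw [h.blk_eq_smul hg hy, Set.ncard_smul_set, h.ncard_eq]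

theorem smul_blk (g : G) {x y : Ω} (hxy : x ≠ y) :
    g • blk' x y = blk' (g • x) (g • y) := by
  obtain ⟨g', hx, hy⟩ := h.exists_map hxy
  rw [h.blk_eq_smul hx hy,
    h.blk_eq_smul (g := g * g') (by rw [mul_smul, hx]) (by rw [mul_smul, hy]), mul_smul]

theorem smul_blk_of_fix {g : G} (hga : g • a = a) {v : Ω} (hv : v ≠ a) :
    g • blk' a v = blk' a (g • v) := by
  rw [h.smul_blk g (Ne.symm hv), hga]

theorem smul_B {g : G} (hga : g • a = a) (hgb : g • b = b) : g • B = B :=
  h.block g hga b h.b_mem (hgb.symm ▸ h.b_mem)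

/-- No system of lines of size `p + 1`. -/
theorem no_symmetric (X : Ω → Ω → Set Ω)
    (hl : ∀ x y, x ≠ y → x ∈ X x y) (hr : ∀ x y, x ≠ y → y ∈ X x y)
    (hcard : ∀ x y, x ≠ y → (X x y).ncard = p + 1)
    (hsame : ∀ x y z, x ≠ y → z ∈ X x y → z ≠ x → X x z = X x y)
    (hsymm : ∀ x y, x ≠ y → X x y = X y x) : False := by
  classical
  have := Fintype.ofFinite Ω
  have key : ∀ x y z w, x ≠ y → z ∈ X x y → w ∈ X x y → z ≠ w → X z w = X x y := by
    intro x y z w hxy hz hw hzw
    by_cases hzx : z = x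
    · subst hzx
      exact hsame z y w hxy hw hzw.symm
    · have h1 : X z x = X x y := by rw [hsymm z x hzx, hsame x y z hxy hz hzx]
      rw [hsame z x w hzx (h1 ▸ hw) hzw.symm, h1]
  have hfib : ∀ L ∈ ((Finset.univ : Finset Ω).offDiag.image fun q => X q.1 q.2),
      ((Finset.univ : Finset Ω).offDiag.filter fun q => X q.1 q.2 = L).card =
        (p + 1) * (p + 1) - (p + 1) := by
    intro L hL
    simp only [Finset.mem_image, Finset.mem_offDiag, Finset.mem_univ, true_and] at hL
    obtain ⟨⟨x, y⟩, hxy, rfl⟩ := hL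
    have e : ((Finset.univ : Finset Ω).offDiag.filter fun q => X q.1 q.2 = X x y) =
        (X x y).toFinset.offDiag := by
      ext ⟨z, w⟩
      simp only [Finset.mem_filter, Finset.mem_offDiag, Finset.mem_univ, true_and,
        Set.mem_toFinset]
      refine ⟨fun hh => ⟨hh.2 ▸ hl z w hh.1, hh.2 ▸ hr z w hh.1, hh.1⟩, fun hh => ⟨hh.2.2, ?_⟩⟩
      exact key x y z w hxy hh.1 hh.2.1 hh.2.2
    rw [e, Finset.offDiag_card, ← Set.ncard_eq_toFinset_card', hcard x y hxy]
  have hsum := Finset.card_eq_sum_card_image (fun q : Ω × Ω => X q.1 q.2)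
    (Finset.univ : Finset Ω).offDiag
  rw [Finset.sum_congr rfl hfib, Finset.sum_const, Finset.offDiag_card, Finset.card_univ,
    ← Nat.card_eq_fintype_card, h.card_eq, smul_eq_mul] at hsum
  have e1 : (p ^ 2 + 1) * (p ^ 2 + 1) - (p ^ 2 + 1) = ((p ^ 2 + 1) * p) * p := by
    rw [Nat.sub_eq_iff_eq_add (Nat.le_mul_self _)]
    ring
  have e2 : (p + 1) * (p + 1) - (p + 1) = (p + 1) * p := by
    rw [Nat.sub_eq_iff_eq_add (Nat.le_mul_self _)]
    ring
  rw [e1, e2, ← mul_assoc] at hsum
  have hd : p + 1 ∣ (p ^ 2 + 1) * p :=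
    ⟨_, (Nat.eq_of_mul_eq_mul_right h.prime.pos hsum).trans (mul_comm _ _)⟩
  have hco : Nat.Coprime (p + 1) p := by simp [Nat.coprime_self_add_left]
  obtain ⟨k, hk⟩ := hco.dvd_of_dvd_mul_right hd
  obtain ⟨q, rfl⟩ : ∃ q, p = q + 2 := ⟨p - 2, by have := h.two_le; omega⟩
  have hd2 : q + 2 + 1 ∣ 2 := by
    refine (Nat.dvd_add_right (Dvd.intro (q + 1) rfl : q + 2 + 1 ∣ (q + 2 + 1) * (q + 1))).1 ?_
    refine ⟨k, ?_⟩
    rw [← hk]
    ring
  have := Nat.le_of_dvd two_pos hd2
  omega

/-- `B ∖ b` is not the part outside `a` of the block at `a` of the stabiliser of `b`. -/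
theorem exists_mem_notMem : ∃ c ∈ blk' b a, c ≠ a ∧ c ∉ B := by
  by_contra! hno
  have hba : insert b (blk' b a) = insert a B := by
    refine Set.eq_of_subset_of_ncard_le ?_ ?_
    · rintro v (rfl | hv)
      · exact Or.inr h.b_mem
      · by_cases hva : v = a
        · exact Or.inl hva
        · exact Or.inr (hno v hv hva)
    · rw [Set.ncard_insert_of_notMem (h.center_notMem b a), h.ncard_blk h.ne_ab.symm,
        Set.ncard_insert_of_notMem h.a_notMem, h.ncard_eq]
  refine h.no_symmetric (fun x y => insert x (blk' x y)) (fun x y _ => Set.mem_insert _ _)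
    (fun x y hxy => Set.mem_insert_of_mem _ (h.mem_blk hxy)) (fun x y hxy => by
      rw [Set.ncard_insert_of_notMem (h.center_notMem x y), h.ncard_blk hxy]) ?_ ?_
  · intro x y z _ hz hzx
    show insert x (blk' x z) = insert x (blk' x y)
    rw [h.blk_eq_of_mem (Set.mem_of_mem_insert_of_ne hz hzx)]
  · intro x y hxy
    obtain ⟨g, hx, hy⟩ := h.exists_map hxy
    show insert x (blk' x y) = insert y (blk' y x)
    rw [← hx, ← hy, ← h.smul_blk g h.ne_ab, ← h.smul_blk g h.ne_ab.symm, h.blk_self,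
      ← Set.smul_set_insert, ← Set.smul_set_insert, hba]

theorem card_stabilizer :
    Nat.card (stabilizer G a) = p ^ 2 * Nat.card ↥(stabilizer G a ⊓ stabilizer G b) := by
  classical
  have horb : orbit (stabilizer G a) b = {a}ᶜ := by
    refine Set.ext fun v => ⟨?_, fun hv => ?_⟩
    · rintro ⟨g, rfl⟩ e
      exact h.ne_ab (MulAction.injective (g : G)
        ((mem_stabilizer_iff.1 g.2).trans (Set.mem_singleton_iff.1 e).symm))
    · obtain ⟨g, hga, hgb⟩ := h.exists_map (Ne.symm hv : a ≠ v)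
      exact ⟨⟨g, hga⟩, hgb⟩
  have h1 := Subgroup.card_mul_index (stabilizer (stabilizer G a) b)
  rw [index_stabilizer, horb, Set.ncard_compl, Set.ncard_singleton, h.card_eq,
    Nat.add_sub_cancel] at h1
  rw [← h1, mul_comm]
  congr 1
  exact Nat.card_congr
    { toFun := fun x => ⟨(x : stabilizer G a), x.1.2, x.2⟩
      invFun := fun x => ⟨⟨x, x.2.1⟩, x.2.2⟩
      left_inv := fun x => rfl
      right_inv := fun x => rfl }

theorem card_pair {c : Ω} (hc : c ≠ a) :
    Nat.card ↥(stabilizer G a ⊓ stabilizer G c) =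
      Nat.card ↥(stabilizer G a ⊓ stabilizer G b) := by
  obtain ⟨g, hga, hgb⟩ := h.exists_map (Ne.symm hc)
  refine Nat.card_congr (Equiv.subtypeEquiv (MulAut.conj g⁻¹).toEquiv fun x => ?_)
  simp only [Subgroup.mem_inf, mem_stabilizer_iff, MulEquiv.toEquiv_eq_coe, EquivLike.coe_coe,
    MulAut.conj_apply, inv_inv, mul_smul, hga, hgb, inv_smul_eq_iff]

/-- An abelian subgroup of `G_a` regular on the other points; `p ∤ |G_ab|`. -/
theorem exists_kernel : ∃ U : Subgroup G, U ≤ stabilizer G a ∧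
    (∀ u ∈ U, ∀ v ∈ U, u * v = v * u) ∧ (∀ x, x ≠ a → ∃! u : U, (u : G) • b = x) ∧
    ¬ p ∣ Nat.card ↥(stabilizer G a ⊓ stabilizer G b) := by
  classical
  have hp := Fact.mk h.prime
  let P0 : Sylow p (stabilizer G a) := default
  let P : Subgroup G := (P0 : Subgroup (stabilizer G a)).map (stabilizer G a).subtype
  have hPa : P ≤ stabilizer G a := Subgroup.map_subtype_le _
  have hP : IsPGroup p P := P0.2.map _
  have hPcard : Nat.card P = p ^ (Nat.card (stabilizer G a)).factorization p := by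
    rw [← P0.card_eq_multiplicity]
    exact Nat.card_congr ((P0 : Subgroup (stabilizer G a)).equivMapOfInjective _
      (Subgroup.subtype_injective _)).symm.toEquiv
  set d := Nat.card ↥(stabilizer G a ⊓ stabilizer G b) with hd
  have hGa : Nat.card (stabilizer G a) = p ^ 2 * d := h.card_stabilizer
  have hsub : ∀ v, v ≠ a → orbit P v ⊆ {a}ᶜ := by
    rintro v hv _ ⟨g, rfl⟩ e
    exact hv (MulAction.injective (g : G)
      ((Set.mem_singleton_iff.1 e).trans (mem_stabilizer_iff.1 (hPa g.2)).symm))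
  have horb : ∀ v, v ≠ a → orbit P v = {a}ᶜ ∧
      Nat.card (stabilizer P v) * p ^ 2 = Nat.card P := by
    intro v hv
    obtain ⟨k, hk⟩ := (IsPGroup.iff_card).1 (hP.to_subgroup (stabilizer P v))
    obtain ⟨j, hj⟩ := hP.card_orbit v
    rw [Nat.card_coe_set_eq] at hj
    have hk' : p ^ k ∣ d := by
      rw [← hk, hd, ← h.card_pair hv]
      refine Subgroup.card_dvd_of_injective
        ((P.subtype.comp (stabilizer P v).subtype).codRestrict (stabilizer G a ⊓ stabilizer G v)
          fun x => ⟨hPa x.1.2, x.2⟩) ?_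
      intro x y e
      exact Subtype.ext (Subtype.ext (congrArg (fun z : ↥(stabilizer G a ⊓ stabilizer G v) =>
        (z : G)) e))
    have h1 : p ^ (2 + k) ∣ Nat.card (stabilizer G a) := by
      rw [hGa, pow_add]
      exact Nat.mul_dvd_mul_left _ hk'
    rw [h.prime.pow_dvd_iff_le_factorization Nat.card_pos.ne'] at h1
    have h2 := Subgroup.card_mul_index (stabilizer P v)
    rw [index_stabilizer, hj, hk, ← pow_add, hPcard] at h2
    have h3 := Nat.pow_right_injective h.two_le h2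
    have hle := Set.ncard_le_ncard (hsub v hv)
    have hcompl : ({a}ᶜ : Set Ω).ncard = p ^ 2 := by
      rw [Set.ncard_compl, Set.ncard_singleton, h.card_eq, Nat.add_sub_cancel]
    rw [hj, hcompl, Nat.pow_le_pow_iff_right h.prime.one_lt] at hle
    have hj2 : j = 2 := by omega
    refine ⟨Set.eq_of_subset_of_ncard_le (hsub v hv) ?_, ?_⟩
    · rw [hj, hj2, hcompl]
    · rw [hPcard, ← h3, hk, hj2, pow_add]
  have hne : b ≠ a := h.ne_ab.symm
  set W := stabilizer P b with hW
  have heq : ∀ v, v ≠ a → (∀ w ∈ W, w • v = v) → stabilizer P v = W := by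
    intro v hv hfix
    refine (Subgroup.eq_of_le_of_card_ge (fun w hw => hfix w hw) ?_).symm
    have h1 := (horb v hv).2
    rw [← (horb b hne).2] at h1
    exact (Nat.eq_of_mul_eq_mul_right (pow_pos h.prime.pos 2) h1).le
  have hWfix : ∀ (T : Set Ω) (z : Ω), z ∈ T → T.ncard = p →
      (∀ g : G, g • a = a → g • b = b → g • T = T ∧ g • z = z) →
      ∀ v ∈ T, ∀ w ∈ W, w • v = v := by
    intro T z hz hT hinv v hv w hw
    by_cases hvz : v = z
    · subst hvz
      exact (hinv (w : G) (hPa (w : P).2) hw).2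
    refine fix_of_small (hP.to_subgroup W) (Set.toFinite (T \ {z})) ?_ ?_ (q := ⟨w, hw⟩)
      (show v ∈ T \ {z} from ⟨hv, hvz⟩)
    · rw [Set.ncard_diff_singleton_of_mem hz, hT]
      have := h.two_le
      omega
    · intro q x hx
      obtain ⟨e1, e2⟩ := hinv ((q : P) : G) (hPa (q : P).2) q.2
      refine ⟨e1 ▸ Set.smul_mem_smul_set hx.1, fun e => hx.2 ?_⟩
      exact MulAction.injective ((q : P) : G) ((Set.mem_singleton_iff.1 e).trans e2.symm)
  obtain ⟨c, hc, hca, hcB⟩ := h.exists_mem_notMem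
  have hfB : ∀ v ∈ B, ∀ w ∈ W, w • v = v :=
    hWfix B b h.b_mem h.ncard_eq fun g hga hgb => ⟨h.smul_B hga hgb, hgb⟩
  have hfc : ∀ w ∈ W, w • c = c :=
    hWfix _ a (h.mem_blk hne) (h.ncard_blk hne)
      (fun g hga hgb => ⟨by rw [h.smul_blk g hne, hgb, hga], hga⟩) c hc
  let N := Subgroup.normalizer (W : Set P)
  have hM : ∀ v, v ≠ a → (∀ w ∈ W, w • v = v) → v ∈ orbit N b := by
    intro v hv hfix
    obtain ⟨g, hg⟩ : v ∈ orbit P b := (horb b hne).1 ▸ hv
    simp only at hg
    have e : stabilizer P (g • b) = W.map (MulAut.conj g).toMonoidHom :=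
      stabilizer_smul_eq_stabilizer_map_conj g b
    rw [hg, heq v hv hfix] at e
    refine ⟨⟨g, Subgroup.mem_normalizer_iff.2 fun x => ?_⟩, hg⟩
    constructor
    · intro hx
      rw [e]
      exact ⟨x, hx, by simp⟩
    · intro hx
      rw [e] at hx
      obtain ⟨y, hy, hyx⟩ := hx
      simp only [MulEquiv.coe_toMonoidHom, MulAut.conj_apply, mul_left_inj, mul_right_inj] at hyx
      exact hyx ▸ hy
  have hbig : orbit N b = {a}ᶜ := by
    obtain ⟨j, hj⟩ := (hP.to_subgroup N).card_orbit b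
    rw [Nat.card_coe_set_eq] at hj
    have h1 : insert c B ⊆ orbit N b := by
      rintro v (rfl | hv)
      · exact hM v hca hfc
      · exact hM v (fun e => h.a_notMem (e ▸ hv)) (hfB v hv)
    have h2 := Set.ncard_le_ncard h1 (Set.toFinite _)
    rw [Set.ncard_insert_of_notMem hcB, h.ncard_eq, hj] at h2
    have hj2 : 2 ≤ j := by
      by_contra! hlt
      have : p ^ j ≤ p ^ 1 := Nat.pow_le_pow_right h.prime.pos (by omega)
      rw [pow_one] at this
      omega
    refine Set.eq_of_subset_of_ncard_le ?_ ?_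
    · rintro _ ⟨g, rfl⟩
      exact hsub b hne (mem_orbit b (g : P))
    · rw [hj, Set.ncard_compl, Set.ncard_singleton, h.card_eq, Nat.add_sub_cancel]
      exact Nat.pow_le_pow_right h.prime.pos hj2
  have hWbot : W = ⊥ := by
    refine (Subgroup.eq_bot_iff_forall _).2 fun w hw => Subtype.ext ?_
    have := h.faithful
    refine eq_of_smul_eq_smul (α := Ω) fun v => ?_
    rw [Subgroup.coe_one, one_smul]
    by_cases hva : v = a
    · subst hva
      exact hPa w.2
    obtain ⟨g, hg⟩ : v ∈ orbit N b := hbig ▸ hva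
    simp only at hg
    have h1 : (g : P)⁻¹ * w * g ∈ W := (Subgroup.mem_normalizer_iff''.1 g.2 w).1 hw
    rw [← hg]
    change w • ((g : P) • b) = (g : P) • b
    rw [hW, mem_stabilizer_iff, mul_smul, mul_smul, inv_smul_eq_iff] at h1
    exact h1
  have hP2 : Nat.card P = p ^ 2 := by
    rw [← (horb b hne).2, ← hW, hWbot, Subgroup.card_bot, one_mul]
  refine ⟨P, hPa, ?_, fun x hx => ?_, fun hdvd => ?_⟩
  · intro u hu v hv
    exact congrArg Subtype.val
      (IsPGroup.commutative_of_card_eq_prime_sq hP2 ⟨u, hu⟩ ⟨v, hv⟩)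
  · obtain ⟨g, hg⟩ : x ∈ orbit P b := (horb b hne).1 ▸ hx
    simp only at hg
    refine ⟨g, hg, fun g' hg' => ?_⟩
    have h1 : g⁻¹ * g' ∈ W := by
      rw [hW, mem_stabilizer_iff, mul_smul, inv_smul_eq_iff]
      exact hg'.trans hg.symm
    rw [hWbot, Subgroup.mem_bot, inv_mul_eq_one] at h1
    exact h1.symm
  · have h1 : p ^ 3 ∣ Nat.card (stabilizer G a) := by
      rw [hGa, pow_succ]
      exact Nat.mul_dvd_mul_left _ hdvd
    rw [h.prime.pow_dvd_iff_le_factorization Nat.card_pos.ne'] at h1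
    rw [hPcard] at hP2
    have := Nat.pow_right_injective h.two_le hP2
    omega

end IsSetup

end Cfsg.Agent.Lib.DoublyPrim
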